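import Cfsg.Agent.H571.RM.RowS
import Cfsg.Agent.H565.NoMinTor

/-!
# S3849, P10 (f): exceptional groups, `r` not dividing the order of the Weyl group (helper408)

* `CenB π r G` : some `r`-subgroup `B ≠ 1` centralises every abelian `π`-subgroup of order prime to `r` which it
  normalises; `rowM_of_cenB`;
* `cenB_of_not_dvd` : the Sylow `r`-subgroups, `r ∤ |W|`.
-/

set_option autoImplicit false
set_option linter.unusedSectionVars false

namespace Cfsg.Agent.H408.RM

open Subgroup CoxeterSystem Cfsg Cfsg.Lie Cfsg.Lie.ChevalleyDatum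
open Cfsg.Agent.Nodes.RGDChev Cfsg.Agent.H795.SetTor Cfsg.Agent.H571.DExt Cfsg.Agent.H571.RV Cfsg.Agent.H571.RM
open Cfsg.Agent.H988.CPi Cfsg.Agent.H565.NM Cfsg.Agent.H167.OP Cfsg.Agent.GpExc.Field
  Cfsg.Agent.KFacts.RgdField Cfsg.Agent.KFacts.RgdChevCoord Cfsg.Agent.BpExc.TorCent Cfsg.Agent.BpExc.TorChev
  Cfsg.Agent.BpExc.Tow Cfsg.Agent.BpExc.TowChev Cfsg.Agent.BpExc.Fr Cfsg.Agent.BpExc.LangFr

universe u v

/-- some `r`-subgroup centralises every abelian `π`-subgroup of order prime to `r` which it normalises -/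
def CenB (π : Set ℕ) (r : ℕ) (G : Type*) [Group G] : Prop :=
  ∃ B : Subgroup G, IsPGroup r B ∧ B ≠ ⊥ ∧ ∀ A : Subgroup G, (∀ a ∈ A, ∀ b ∈ A, a * b = b * a) → PiN π (Nat.card A) →
    ¬ r ∣ Nat.card A → B ≤ normalizer (A : Set G) → ∀ b ∈ B, ∀ a ∈ A, b * a = a * b

theorem CenB.of_equiv {π : Set ℕ} {r : ℕ} {G : Type u} [Group G] {G' : Type v} [Group G'] (e : G ≃* G')
    (h : CenB π r G') : CenB π r G := by
  obtain ⟨B, hB, hB1, hC⟩ := h
  refine ⟨B.comap e.toMonoidHom, hB.comap_of_injective e.toMonoidHom e.injective, ?_, ?_⟩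
  · intro h
    apply hB1
    rw [eq_bot_iff]
    intro y hy
    have h6 : e.symm y ∈ B.comap e.toMonoidHom := by
      show e (e.symm y) ∈ B
      rw [e.apply_symm_apply]
      exact hy
    rw [h, mem_bot] at h6
    rw [mem_bot, ← e.apply_symm_apply y, h6, map_one]
  · intro A hab hπ hr hn b hb a ha
    have hcard : Nat.card (A.map e.toMonoidHom) = Nat.card A :=
      Subgroup.card_map_of_injective e.injective
    have h1 := hC (A.map e.toMonoidHom) (by
      rintro _ ⟨x, hx, rfl⟩ _ ⟨y, hy, rfl⟩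
      rw [← map_mul, ← map_mul, hab x hx y hy]) (by rw [hcard]; exact hπ) (by rw [hcard]; exact hr) (by
      intro y hy
      have h6 : e.symm y ∈ B.comap e.toMonoidHom := by
        show e (e.symm y) ∈ B
        rw [e.apply_symm_apply]
        exact hy
      have h7 := mem_normalizer_iff.1 (hn h6)
      rw [mem_normalizer_iff]
      intro x
      constructor
      · rintro ⟨z, hz, rfl⟩
        exact ⟨_, (h7 z).1 hz, by
          show e (e.symm y * z * (e.symm y)⁻¹) = y * e z * y⁻¹
          rw [map_mul, map_mul, map_inv, e.apply_symm_apply]⟩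
      · rintro ⟨z, hz, hz'⟩
        have h8 : e z = y * x * y⁻¹ := hz'
        have h9 : z = e.symm y * e.symm x * (e.symm y)⁻¹ := by
          apply e.injective
          rw [h8, map_mul, map_mul, map_inv, e.apply_symm_apply, e.apply_symm_apply]
        have h10 : e.symm x ∈ A := (h7 _).2 (by rw [← h9]; exact hz)
        exact ⟨_, h10, e.apply_symm_apply x⟩) (e b) hb (e a) ⟨a, ha, rfl⟩
    apply e.injective
    rw [map_mul, map_mul]
    exact h1

theorem rowM_of_cenB {S : Type u} [Group S] [Finite S] [IsSimpleGroup S] {π : Set ℕ} {r : ℕ} {H A : Subgroup S}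
    (hna : ∃ a b : S, a * b ≠ b * a) (d : HA π r H A) (hrπ : r ∈ π) (h : CenB π r S) : RowM π S := by
  obtain ⟨B, hB, hB1, hC⟩ := h
  refine rowM_of_cen hna d hrπ (MonoidHom.id S) Function.surjective_id ?_ ?_ hB ?_ hC
  · rw [MonoidHom.ker_id]
    exact bot_le
  · rw [MonoidHom.ker_id, Subgroup.card_bot]
    exact Nat.coprime_one_right _
  · by_contra hcon
    push Not at hcon
    exact hB1 ((eq_bot_iff_forall B).2 hcon)

/-- it is enough to consider the Sylow subgroups of `A` -/
theorem comm_of_parts {G : Type*} [Group G] [Finite G] {A : Subgroup G} (hab : ∀ a ∈ A, ∀ b ∈ A, a * b = b * a) {b : G}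
    (hn : b ∈ normalizer (A : Set G))
    (h : ∀ t : ℕ, t.Prime → t ∣ Nat.card A → ∀ R : Subgroup G, IsPGroup t R → R ≤ A →
      (∀ x ∈ R, b * x * b⁻¹ ∈ R) → ∀ x ∈ R, b * x = x * b) : ∀ a ∈ A, b * a = a * b := by
  have hAT : A ≤ centralizer ({b} : Set G) := by
    have h6 : ((centralizer ({b} : Set G)).subgroupOf A).index = 1 := by
      rw [Nat.eq_one_iff_not_exists_prime_dvd]
      intro t ht hdvd
      have hft : Fact t.Prime := ⟨ht⟩
      have htA : t ∣ Nat.card A := hdvd.trans (Subgroup.index_dvd_card _)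
      let R : Subgroup G :=
        { carrier := {x | x ∈ A ∧ ∃ n, x ^ t ^ n = 1}
          one_mem' := ⟨one_mem _, 0, one_pow _⟩
          mul_mem' := by
            rintro x y ⟨hx, n, hxn⟩ ⟨hy, m, hym⟩
            refine ⟨mul_mem hx hy, n + m, ?_⟩
            have hc : Commute x y := hab x hx y hy
            rw [hc.mul_pow, pow_add, pow_mul, hxn, one_pow, mul_comm (t ^ n), pow_mul, hym, one_pow, one_mul]
          inv_mem' := by
            rintro x ⟨hx, n, hxn⟩
            exact ⟨inv_mem hx, n, by rw [inv_pow, hxn, inv_one]⟩ }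
      have hR := h t ht htA R (by
        rintro ⟨x, hx, n, hxn⟩
        exact ⟨n, Subtype.ext hxn⟩) (fun x hx => hx.1) (by
        rintro x ⟨hx, n, hxn⟩
        exact ⟨(mem_normalizer_iff.1 hn x).1 hx, n, by rw [conj_pow, hxn, mul_one, mul_inv_cancel]⟩)
      obtain ⟨P⟩ : Nonempty (Sylow t A) := inferInstance
      have hP : (P : Subgroup A) ≤ (centralizer ({b} : Set G)).subgroupOf A := by
        intro x hx
        obtain ⟨n, hn⟩ := P.isPGroup' ⟨x, hx⟩
        have h7 := hR x.1 ⟨x.2, n, congrArg (fun z : P => ((z : A) : G)) hn⟩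
        show (x : G) ∈ centralizer ({b} : Set G)
        rw [mem_centralizer_singleton_iff]
        exact h7.symm
      exact P.not_dvd_index (hdvd.trans (Subgroup.index_dvd_of_le hP))
    rw [Subgroup.index_eq_one, Subgroup.subgroupOf_eq_top] at h6
    exact h6
  intro a ha
  exact (mem_centralizer_singleton_iff.1 (hAT ha)).symm

section

variable {D : ChevalleyDatum} {l : ℕ} {M : CoxeterMatrix (Fin l)} (hp : IsType D l M)
  (p : ℕ) [Fact p.Prime] {k : Type u} [Field k] [IsAlgClosed k] [CharP k p]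

include hp in
/-- **`r` does not divide `|W|`.** -/
theorem cenB_of_not_dvd (hk : LocFin k) {G : Type*} [Group G] [Finite G] {f : G →* ↥(D.group k)}
    (hf : Function.Injective f) {π : Set ℕ} {r : ℕ} (hr : r.Prime) (hW : ¬ r ∣ Nat.card M.Group)
    (hrG : r ∣ Nat.card G)
    (hT : ∀ t : ℕ, t.Prime → t ∈ π → t ≠ r → t ≠ p ∧ ¬ t ^ 2 ∣ Nat.card M.Group ∧
      Tors M.toCoxeterSystem hp.isCartan t) : CenB π r G := by
  have hfr : Fact r.Prime := ⟨hr⟩
  obtain ⟨P⟩ : Nonempty (Sylow r G) := inferInstance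
  refine ⟨P, P.isPGroup', fun h => ?_, ?_⟩
  · have h1 : r ∣ Nat.card P := P.dvd_card_of_dvd_card hrG
    rw [h, card_bot] at h1
    exact hr.one_lt.ne' (Nat.dvd_one.1 h1)
  · intro A hab hπ hrA hn b hb
    refine comm_of_parts hab (hn hb) fun t ht htA R hR hRA hRn => ?_
    have htr : t ≠ r := by
      rintro rfl
      exact hrA htA
    obtain ⟨htp, ht2, htT⟩ := hT t ht (hπ t ht htA) htr
    obtain ⟨g, hg⟩ := exists_g_of_abelian hp p hk f ht htp ht2 htT hR (fun a ha b hb => hab a (hRA ha) b (hRA hb))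
    have hby : ∃ j : ℕ, b ^ r ^ j = 1 := by
      obtain ⟨j, hj⟩ := P.isPGroup' ⟨b, hb⟩
      exact ⟨j, congrArg Subtype.val hj⟩
    exact comm_of_toral hp p hk hf hr hW hby hRn hg

end

end Cfsg.Agent.H408.RM
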