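import Cfsg.Agent.H912.Bd1

/-!
# S3849 P4: elements of small rank centralise abelian groups of odd order in the presence of a form (helper408)

`K` algebraically closed, `A` an abelian subgroup of odd exponent `N`, `N ≠ 0` in `K`, `z` of prime order `r` (odd)
normalises `A`, `A` preserves a nondegenerate bilinear form. If the rank of `z - 1` is smaller than `2 (r - 1)`, then
`z` centralises `A` (modulo the kernel of the representation).
-/

set_option autoImplicit false
set_option linter.unusedSectionVars false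

namespace Cfsg.Agent.H408.RM

open Module Cfsg.Agent.H912.Bd

variable {K : Type*} [Field K] {V : Type*} [AddCommGroup V] [Module K V] {L : Type*} [Group L]

/-- the conjugate of a weight -/
def cj {A : Subgroup L} {z : L} (hz : ∀ a ∈ A, z * a * z⁻¹ ∈ A) (χ : A → K) : A → K :=
  fun a => χ ⟨z * a * z⁻¹, hz a a.2⟩

theorem cj_iterate {A : Subgroup L} {z : L} (hz : ∀ a ∈ A, z * a * z⁻¹ ∈ A) (χ : A → K) (i : ℕ) (a : A)
    (h : z ^ i * a * (z ^ i)⁻¹ ∈ A) : (cj hz)^[i] χ a = χ ⟨z ^ i * a * (z ^ i)⁻¹, h⟩ := by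
  induction i generalizing χ with
  | zero =>
    show χ a = _
    congr 1
    apply Subtype.ext
    simp
  | succ i ih =>
    have hi : ∀ j : ℕ, z ^ j * a * (z ^ j)⁻¹ ∈ A := by
      intro j
      induction j with
      | zero => simp
      | succ j ih =>
        have := hz _ ih
        have h1 : z * (z ^ j * a * (z ^ j)⁻¹) * z⁻¹ = z ^ (j + 1) * a * (z ^ (j + 1))⁻¹ := by
          rw [pow_succ']; group
        rwa [h1] at this
    rw [Function.iterate_succ_apply, ih _ (hi i)]
    show χ _ = _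
    congr 1
    apply Subtype.ext
    show z * (z ^ i * a * (z ^ i)⁻¹) * z⁻¹ = z ^ (i + 1) * a * (z ^ (i + 1))⁻¹
    rw [pow_succ']; group

theorem map_wt (ρ : L →* Module.End K V) {A : Subgroup L} {z : L} (hz : ∀ a ∈ A, z * a * z⁻¹ ∈ A) {χ : A → K} {v : V}
    (hv : v ∈ wt ρ A χ) : ρ z⁻¹ v ∈ wt ρ A (cj hz χ) := by
  rw [mem_wt] at hv ⊢
  intro a
  have h1 := hv ⟨z * a * z⁻¹, hz a a.2⟩
  rw [← Module.End.mul_apply, ← map_mul]
  have h2 : (a : L) * z⁻¹ = z⁻¹ * (z * a * z⁻¹) := by group
  rw [h2, map_mul, Module.End.mul_apply]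
  have h3 : ρ (z * a * z⁻¹) v = χ ⟨z * a * z⁻¹, hz a a.2⟩ • v := h1
  rw [h3, map_smul]
  rfl

theorem map_wt_iterate (ρ : L →* Module.End K V) {A : Subgroup L} {z : L} (hz : ∀ a ∈ A, z * a * z⁻¹ ∈ A) {χ : A → K}
    {v : V} (hv : v ∈ wt ρ A χ) (i : ℕ) : ((ρ z⁻¹) ^ i) v ∈ wt ρ A ((cj hz)^[i] χ) := by
  induction i with
  | zero => simpa using hv
  | succ i ih =>
    rw [Function.iterate_succ_apply', pow_succ', Module.End.mul_apply]
    exact map_wt ρ hz ih

/-- two vectors with `2 r` different weights -/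
theorem finrank_of_orbits [FiniteDimensional K V] (ρ : L →* Module.End K V) {A : Subgroup L}
    (hA : ∀ a ∈ A, ∀ b ∈ A, a * b = b * a) {N : ℕ} (hN : (N : K) ≠ 0) (hAN : ∀ a ∈ A, a ^ N = 1) {z : L}
    (hz : ∀ a ∈ A, z * a * z⁻¹ ∈ A) {r : ℕ} {χ χ' : A → K} {v w : V} (hv : v ∈ wt ρ A χ) (hw : w ∈ wt ρ A χ')
    (hv0 : v ≠ 0) (hw0 : w ≠ 0)
    (hinj : Function.Injective (Sum.elim (fun i : Fin r => (cj hz)^[(i : ℕ)] χ) (fun i : Fin r => (cj hz)^[(i : ℕ)] χ'))) :
    2 * r ≤ finrank K (LinearMap.range (ρ z - 1)) + 2 := by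
  let f : Fin r ⊕ Fin r → V := Sum.elim (fun i => ((ρ z⁻¹) ^ (i : ℕ)) v) (fun i => ((ρ z⁻¹) ^ (i : ℕ)) w)
  have hunit : ∀ (i : ℕ) (u : V), u ≠ 0 → ((ρ z⁻¹) ^ i) u ≠ 0 := by
    intro i u hu h
    apply hu
    have h1 : ((ρ z) ^ i) (((ρ z⁻¹) ^ i) u) = u := by
      rw [← Module.End.mul_apply, ← map_pow, ← map_pow, ← map_mul, inv_pow, mul_inv_cancel, map_one,
        Module.End.one_apply]
    rw [← h1, h, map_zero]
  have hli : LinearIndependent K f := by
    refine iSupIndep.linearIndependent (fun j => wt ρ A (Sum.elim (fun i : Fin r => (cj hz)^[(i : ℕ)] χ)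
      (fun i : Fin r => (cj hz)^[(i : ℕ)] χ') j)) ((indep_wt ρ hA hN hAN).comp hinj) ?_ ?_
    · rintro (i | i)
      · exact map_wt_iterate ρ hz hv i
      · exact map_wt_iterate ρ hz hw i
    · rintro (i | i)
      · exact hunit i v hv0
      · exact hunit i w hw0
  have hE : finrank K (Submodule.span K (Set.range f)) = 2 * r := by
    rw [finrank_span_eq_card hli, Fintype.card_sum, Fintype.card_fin, two_mul]
  set R := LinearMap.range (ρ z - 1) with hR
  have hstep : ∀ u : V, ρ z⁻¹ u - u ∈ R := by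
    intro u
    refine ⟨-(ρ z⁻¹ u), ?_⟩
    rw [LinearMap.sub_apply, Module.End.one_apply, map_neg, ← Module.End.mul_apply, ← map_mul, mul_inv_cancel, map_one,
      Module.End.one_apply]
    abel
  have hpow : ∀ (i : ℕ) (u : V), ((ρ z⁻¹) ^ i) u - u ∈ R := by
    intro i u
    induction i with
    | zero => simp
    | succ i ih =>
      have h1 := R.add_mem (hstep (((ρ z⁻¹) ^ i) u)) ih
      rw [pow_succ', Module.End.mul_apply]
      simpa using h1
  have hle : Submodule.span K (Set.range f) ≤ R ⊔ Submodule.span K {v, w} := by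
    rw [Submodule.span_le]
    rintro _ ⟨i | i, rfl⟩
    · have h1 := hpow i v
      have h2 : ((ρ z⁻¹) ^ (i : ℕ)) v = (((ρ z⁻¹) ^ (i : ℕ)) v - v) + v := by abel
      show ((ρ z⁻¹) ^ (i : ℕ)) v ∈ _
      rw [h2]
      exact Submodule.add_mem_sup h1 (Submodule.subset_span (by simp))
    · have h1 := hpow i w
      have h2 : ((ρ z⁻¹) ^ (i : ℕ)) w = (((ρ z⁻¹) ^ (i : ℕ)) w - w) + w := by abel
      show ((ρ z⁻¹) ^ (i : ℕ)) w ∈ _
      rw [h2]
      exact Submodule.add_mem_sup h1 (Submodule.subset_span (by simp))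
  have h3 : finrank K (Submodule.span K ({v, w} : Set V)) ≤ 2 := by
    have h4 := finrank_span_finset_le_card (R := K) (M := V) (by classical exact ({v, w} : Finset V))
    classical
    have h5 : ((({v, w} : Finset V) : Set V)) = {v, w} := by simp
    calc finrank K (Submodule.span K ({v, w} : Set V)) = finrank K (Submodule.span K ((({v, w} : Finset V) : Set V))) := by
          rw [h5]
      _ ≤ ({v, w} : Finset V).card := finrank_span_finset_le_card _
      _ ≤ 2 := Finset.card_le_two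
  calc 2 * r = finrank K (Submodule.span K (Set.range f)) := hE.symm
    _ ≤ finrank K (R ⊔ Submodule.span K {v, w} : Submodule K V) := Submodule.finrank_mono hle
    _ ≤ finrank K R + finrank K (Submodule.span K {v, w}) := Submodule.finrank_add_le_finrank_add_finrank _ _
    _ ≤ finrank K R + 2 := by omega

/-- **elements of small rank centralise** -/
theorem comm_of_rank [IsAlgClosed K] [FiniteDimensional K V] (ρ : L →* Module.End K V) {A : Subgroup L}
    (hA : ∀ a ∈ A, ∀ b ∈ A, a * b = b * a) {N : ℕ} (hN : (N : K) ≠ 0) (hodd : Odd N) (hAN : ∀ a ∈ A, a ^ N = 1) {z : L}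
    (hz : ∀ a ∈ A, z * a * z⁻¹ ∈ A) {r : ℕ} (hr : r.Prime) (hr2 : r ≠ 2) (hzr : z ^ r = 1)
    (B : V →ₗ[K] V →ₗ[K] K) (hnd : ∀ v, (∀ w, B v w = 0) → v = 0) (hB : ∀ a ∈ A, ∀ v w, B (ρ a v) (ρ a w) = B v w)
    (hrk : finrank K (LinearMap.range (ρ z - 1)) < 2 * (r - 1)) {a : L} (ha : a ∈ A) : ρ (z * a * z⁻¹) = ρ a := by
  -- every weight is fixed
  have key : ∀ χ : A → K, wt ρ A χ ≠ ⊥ → cj hz χ = χ := by
    intro χ hχ
    by_contra hne
    have hper : ∀ ψ : A → K, (cj hz)^[r] ψ = ψ := by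
      intro ψ
      funext b
      have h1 : z ^ r * (b : L) * (z ^ r)⁻¹ ∈ A := by rw [hzr]; simp
      rw [cj_iterate hz ψ r b h1]
      congr 1
      apply Subtype.ext
      show z ^ r * (b : L) * (z ^ r)⁻¹ = b
      rw [hzr]; simp
    -- the period of `χ`
    have hmp : Function.minimalPeriod (cj hz) χ = r := by
      have h1 : Function.minimalPeriod (cj hz) χ ∣ r := Function.IsPeriodicPt.minimalPeriod_dvd (hper χ)
      rcases (Nat.dvd_prime hr).1 h1 with h2 | h2
      · exact absurd (Function.minimalPeriod_eq_one_iff_isFixedPt.1 h2) hne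
      · exact h2
    obtain ⟨v, hv, hv0⟩ := Submodule.exists_mem_ne_zero_of_ne_bot hχ
    -- the dual weight
    obtain ⟨χ', w, hw, hBw⟩ : ∃ (χ' : A → K) (w : V), w ∈ wt ρ A χ' ∧ B v w ≠ 0 := by
      by_contra hcon
      push Not at hcon
      apply hv0
      apply hnd
      have h1 : (⊤ : Submodule K V) ≤ LinearMap.ker (B v) := by
        rw [← iSup_wt ρ hA hN hAN]
        exact iSup_le fun χ' w hw => hcon χ' w hw
      exact fun w => h1 (Submodule.mem_top : w ∈ ⊤)
    have hw0 : w ≠ 0 := fun h => hBw (by rw [h, map_zero])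
    have hdual : ∀ b : A, χ b * χ' b = 1 := by
      intro b
      have h1 := hB b b.2 v w
      rw [mem_wt.1 hv b, mem_wt.1 hw b, map_smul, map_smul, LinearMap.smul_apply, smul_eq_mul, smul_eq_mul,
        ← mul_assoc, mul_comm (χ' b)] at h1
      have h2 : (χ b * χ' b - 1) * B v w = 0 := by rw [sub_mul, h1, one_mul, sub_self]
      exact sub_eq_zero.1 ((mul_eq_zero.1 h2).resolve_right hBw)
    have hdual' : ∀ (i : ℕ) (b : A), (cj hz)^[i] χ b * (cj hz)^[i] χ' b = 1 := by
      intro i
      induction i with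
      | zero => exact hdual
      | succ i ih =>
        intro b
        rw [Function.iterate_succ_apply', Function.iterate_succ_apply']
        exact ih _
    -- different weights
    have hinjχ : ∀ i j : ℕ, i < r → j < r → (cj hz)^[i] χ = (cj hz)^[j] χ → i = j := by
      intro i j hi hj h
      exact (Function.iterate_injOn_Iio_minimalPeriod (f := cj hz) (x := χ)) (by rw [hmp]; exact hi)
        (by rw [hmp]; exact hj) h
    have hinv : ∀ (ψ ψ' : A → K), (∀ b, ψ b * ψ' b = 1) → ∀ φ : A → K, (∀ b, ψ b * φ b = 1) → ψ' = φ := by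
      intro ψ ψ' h1 φ h2
      funext b
      have h0 : ψ b ≠ 0 := fun h => by
        have := h1 b
        rw [h, zero_mul] at this
        exact zero_ne_one this
      exact mul_left_cancel₀ h0 ((h1 b).trans (h2 b).symm)
    have hinjχ' : ∀ i j : ℕ, i < r → j < r → (cj hz)^[i] χ' = (cj hz)^[j] χ' → i = j := by
      intro i j hi hj h
      apply hinjχ i j hi hj
      refine hinv ((cj hz)^[i] χ') _ (fun b => ?_) _ (fun b => ?_)
      · rw [mul_comm]; exact hdual' i b
      · rw [h, mul_comm]; exact hdual' j b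
    have hcross : ∀ i j : ℕ, i < r → j < r → (cj hz)^[i] χ ≠ (cj hz)^[j] χ' := by
      intro i j hi hj h
      -- `χ' = χ^(k)`
      obtain ⟨k, hk⟩ : ∃ k : ℕ, (cj hz)^[k] χ = χ' := by
        refine ⟨(r - j) + i, ?_⟩
        rw [Function.iterate_add_apply, h, ← Function.iterate_add_apply, Nat.sub_add_cancel hj.le, hper]
      have h1 : (cj hz)^[k] χ' = χ := by
        refine hinv χ' _ (fun b => ?_) _ (fun b => ?_)
        · have := hdual' k b
          rwa [hk] at this
        · rw [mul_comm]; exact hdual b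
      have h2 : Function.IsPeriodicPt (cj hz) (2 * k) χ := by
        show (cj hz)^[2 * k] χ = χ
        rw [two_mul, Function.iterate_add_apply, hk, h1]
      have h3 := h2.minimalPeriod_dvd
      rw [hmp] at h3
      have h4 : r ∣ k := by
        rcases (Nat.Prime.dvd_mul hr).1 h3 with h5 | h5
        · exact absurd ((Nat.prime_dvd_prime_iff_eq hr Nat.prime_two).1 h5) hr2
        · exact h5
      have h5 : (cj hz)^[k] χ = χ := by
        have h6 : Function.IsPeriodicPt (cj hz) r χ := hper χ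
        obtain ⟨c, rfl⟩ := h4
        exact (h6.mul_const c)
      have h6 : χ' = χ := hk.symm.trans h5
      -- `χ² = 1`
      apply hne
      have h7 : ∀ b : A, χ b = 1 := by
        intro b
        have h8 := hdual b
        rw [h6] at h8
        have h9 : ∀ n : ℕ, χ (b ^ n) = χ b ^ n := by
          intro n
          induction n with
          | zero => rw [pow_zero, pow_zero]; exact wt_one ρ hχ
          | succ n ih => rw [pow_succ, pow_succ, wt_mul ρ hχ, ih]
        have h10 : χ b ^ N = 1 := by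
          rw [← h9]
          have : b ^ N = 1 := Subtype.ext (hAN b b.2)
          rw [this]
          exact wt_one ρ hχ
        obtain ⟨m, hm⟩ := hodd
        rw [hm, pow_succ, pow_mul, pow_two, h8, one_pow, one_mul] at h10
        exact h10
      funext b
      show χ _ = χ b
      rw [h7, h7]
    have h1 := finrank_of_orbits ρ hA hN hAN hz (r := r) hv hw hv0 hw0 (by
      rintro (i | i) (j | j) h
      · exact congrArg Sum.inl (Fin.ext (hinjχ i j i.2 j.2 h))
      · exact absurd h (hcross i j i.2 j.2)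
      · exact absurd h.symm (hcross j i j.2 i.2)
      · exact congrArg Sum.inr (Fin.ext (hinjχ' i j i.2 j.2 h)))
    have h2 := hr.two_le
    omega
  -- hence `z` centralises `A`
  have h1 : (⊤ : Submodule K V) ≤ LinearMap.ker (ρ (z * a * z⁻¹) - ρ a) := by
    rw [← iSup_wt ρ hA hN hAN]
    refine iSup_le fun χ v hv => ?_
    by_cases hv0 : v = 0
    · rw [hv0]; exact Submodule.zero_mem _
    have hχ : wt ρ A χ ≠ ⊥ := fun h => hv0 ((Submodule.mem_bot K).1 (h ▸ hv))
    rw [LinearMap.mem_ker, LinearMap.sub_apply]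
    have h2 := mem_wt.1 hv ⟨z * a * z⁻¹, hz a ha⟩
    have h3 := mem_wt.1 hv ⟨a, ha⟩
    have h4 : χ ⟨z * a * z⁻¹, hz a ha⟩ = χ ⟨a, ha⟩ := congrFun (key χ hχ) ⟨a, ha⟩
    rw [h4] at h2
    exact sub_eq_zero.2 (h2.trans h3.symm)
  apply LinearMap.ext
  intro v
  have h2 := h1 (Submodule.mem_top : v ∈ ⊤)
  rw [LinearMap.mem_ker, LinearMap.sub_apply] at h2
  exact sub_eq_zero.1 h2

end Cfsg.Agent.H408.RM
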