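import Cfsg.Agent.H408.RM.CenB
import Cfsg.Agent.H795.RowsA
import Cfsg.Agent.H795.NotAbRows
import Cfsg.Agent.H167.RV.TorC
import Cfsg.Agent.H565.PairExc

/-!
# S3849, P10 (f): the rows `r ∤ |W|` of `F₄(q)`, `E₆(q)`, `²E₆(q)`, `E₇(q)`, `E₈(q)` (helper408)

* `not_notAb_of_HA` : `t ∈ π`, `t ≠ r`: the Sylow `t`-subgroups are abelian;
* `three_not_mem` : `3 ∈ π` implies `r = 3` (rows `three_f4`, ..), `five_e8` : `5 ∈ π` implies `r = 5` for `E₈(q)`;
* `rowM_f4_of_not_dvd`, `rowM_e6_of_not_dvd`, `rowM_2E6_of_not_dvd`, `rowM_e7_of_not_dvd`, `rowM_e8_of_not_dvd`.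
-/

set_option autoImplicit false
set_option linter.unusedSectionVars false

namespace Cfsg.Agent.H408.RM

open Subgroup CoxeterSystem Cfsg Cfsg.Lie Cfsg.Lie.ChevalleyDatum
open Cfsg.Agent.Nodes.RGDChev Cfsg.Agent.H795.SetTor Cfsg.Agent.H571.DExt Cfsg.Agent.H571.RV Cfsg.Agent.H571.RM
open Cfsg.Agent.H988.CPi Cfsg.Agent.H565.NM Cfsg.Agent.H167.OP Cfsg.Agent.GpExc.Field
  Cfsg.Agent.KFacts.RgdField Cfsg.Agent.KFacts.RgdChevCoord Cfsg.Agent.BpExc.TorCent Cfsg.Agent.BpExc.TorChev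
  Cfsg.Agent.BpExc.Tow Cfsg.Agent.BpExc.TowChev Cfsg.Agent.BpExc.Fr Cfsg.Agent.BpExc.LangFr
open Cfsg.Agent.H795.RowsA Cfsg.Agent.BpExc.RowsUntw Cfsg.Agent.H129.TorusChar Cfsg.Agent.H720.TwFr
open Cfsg.Agent.H800.Sp (NotAb)

universe u v

section general

variable {π : Set ℕ} {r : ℕ} {S : Type u} [Group S] [Finite S] {H A : Subgroup S}

/-- the Sylow subgroups for the other primes are abelian -/
theorem not_notAb_of_HA (d : HA π r H A) {t : ℕ} (ht : t.Prime) (htπ : t ∈ π) (htr : t ≠ r) : ¬ NotAb t S := by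
  have hft : Fact t.Prime := ⟨ht⟩
  intro hN
  obtain ⟨P⟩ : Nonempty (Sylow t A) := inferInstance
  have h1 : ¬ t ∣ ((P : Subgroup A).map A.subtype).index := by
    intro hd
    have h2 : ((P : Subgroup A).map A.subtype).index = (P : Subgroup A).index * (A.relIndex H * H.index) := by
      rw [Subgroup.relIndex_mul_index d.ale, ← Subgroup.relIndex_mul_index (map_subtype_le (P : Subgroup A))]
      congr 1
      show (((P : Subgroup A).map A.subtype).comap A.subtype).index = _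
      rw [Subgroup.comap_map_eq_self_of_injective A.subtype_injective]
    rw [h2] at hd
    rcases (Nat.Prime.dvd_mul ht).1 hd with h3 | h3
    · exact P.not_dvd_index h3
    rcases (Nat.Prime.dvd_mul ht).1 h3 with h4 | h4
    · exact htr (d.idx t ht h4)
    · exact d.hall.2 t ht htπ h4
  have hP : IsPGroup t ((P : Subgroup A).map A.subtype) := P.isPGroup'.map _
  apply hN (hP.toSylow h1)
  refine ⟨⟨?_⟩⟩
  rintro ⟨x, hx⟩ ⟨y, hy⟩
  apply Subtype.ext
  obtain ⟨a, -, rfl⟩ := hx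
  obtain ⟨b, -, rfl⟩ := hy
  exact d.ab _ a.2 _ b.2

/-- `r` does not divide the order -/
theorem rowM_of_not_dvd_card (d : HA π r H A) (h : ¬ r ∣ Nat.card S) : RowM π S := by
  refine her_rowM (her_of_nilpotent d.hall ?_)
  have h1 : A.relIndex H = 1 := by
    rw [Nat.eq_one_iff_not_exists_prime_dvd]
    intro t ht hd
    have h2 := d.idx t ht hd
    subst h2
    exact h (hd.trans ((Subgroup.index_dvd_card (A.subgroupOf H)).trans (card_subgroup_dvd_card H)))
  have h2 : H ≤ A := Subgroup.relIndex_eq_one.1 h1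
  have : IsMulCommutative H := ⟨⟨fun x y => Subtype.ext (d.ab _ (h2 x.2) _ (h2 y.2))⟩⟩
  let _ : CommGroup H := { (inferInstance : Group H) with mul_comm := fun x y => this.is_comm.comm x y }
  exact CommGroup.isNilpotent

end general

section rows

variable {π : Set ℕ} {r : ℕ} {S : Type v} [Group S] [Finite S] [IsSimpleGroup S] {H A : Subgroup S}
  (hna : ∃ a b : S, a * b ≠ b * a) (d : HA π r H A) (hrπ : r ∈ π) (h2 : 2 ∉ π) {p : ℕ} (hpπ : p ∉ π)

include hna d hrπ h2 hpπ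

/-- the untwisted groups -/
theorem rowM_untw_of_not_dvd {D : ChevalleyDatum} {l : ℕ} {M : CoxeterMatrix (Fin l)} (hp : IsType D l M)
    {F : Type u} [Field F] [Fintype F] [CharP F p] (X : Cfsg.Agent.H572.ExcE.Dat D l) (h3W : 3 ∣ Nat.card M.Group)
    (hW : ¬ r ∣ Nat.card M.Group) (h3 : (3 : F) ≠ 0 → NotAb 3 ↥(D.group F))
    (hT : ∀ t : ℕ, t.Prime → 5 ≤ t → t ∈ π → t ≠ r → (t : F) ≠ 0 → ¬ t ^ 2 ∣ Nat.card M.Group ∧
      Tors M.toCoxeterSystem hp.isCartan t) (e : S ≃* ↥(D.group F)) : RowM π S := by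
  by_cases hrS : ¬ r ∣ Nat.card S
  · exact rowM_of_not_dvd_card d hrS
  rw [not_not] at hrS
  obtain ⟨p', n, hr, hrF, hrk, he, hqF, hk⟩ := Cfsg.Agent.H129.TorusUntw.exists_closure (F := F) rfl
  have hrp : p = p' := CharP.eq F ‹_› hrF
  subst hrp
  have hset := Cfsg.Agent.H572.ExcE.setup_untw' hp X hk he hqF
  have hpp : p.Prime := Fact.out
  have hfF : ∀ t : ℕ, t.Prime → t ∈ π → (t : F) ≠ 0 := fun t ht htπ =>
    cast_ne_zero_of_char (F := F) hpp ht (fun h => hpπ (h ▸ htπ))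
  have h3π : 3 ∉ π := by
    intro h3π
    have h3r : 3 ≠ r := by
      rintro rfl
      exact hW h3W
    refine not_notAb_of_HA d Nat.prime_three h3π h3r ?_
    have : Fact (Nat.Prime 3) := ⟨Nat.prime_three⟩
    have h3F := hfF 3 Nat.prime_three h3π
    exact NotAb.of_mulEquiv e.symm (h3 (by exact_mod_cast h3F))
  have hGf : Finite ↥(D.group F) := inferInstance
  have hcard : Nat.card S = Nat.card ↥(D.group F) := Nat.card_congr e.toEquiv
  refine rowM_of_cenB hna d hrπ (CenB.of_equiv e ?_)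
  refine cenB_of_not_dvd hp p hk hset.1 d.hr hW (hcard ▸ hrS) fun t ht htπ htr => ⟨fun h => hpπ (h ▸ htπ), ?_⟩
  have h5 : 5 ≤ t := by
    have h1 := ht.two_le
    rcases lt_or_ge t 5 with h | h
    · interval_cases t
      · exact absurd htπ h2
      · exact absurd htπ h3π
      · exact absurd ht (by decide)
    · exact h
  exact hT t ht h5 htπ htr (hfF t ht htπ)

/-- **`F₄(q)`**, `r ≥ 5` -/
theorem rowM_f4_of_not_dvd {F : Type u} [Field F] [Fintype F] [CharP F p] (hr5 : 5 ≤ r)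
    (e : S ≃* ↥(chevF4.group F)) : RowM π S := by
  have := finW f4T
  refine rowM_untw_of_not_dvd hna d hrπ h2 hpπ f4T Cfsg.Agent.H572.ExcE.datF4 (by rw [card_F4]; norm_num)
    (by rw [card_F4]; exact not_dvd_1152 d.hr hr5) (fun h => Cfsg.Agent.H795.NotAbRows.f4 h) (fun t ht h5 _ _ _ => ?_) e
  have h := not_dvd_1152 ht h5
  rw [← card_F4] at h
  exact ⟨fun h1 => h ((dvd_pow_self t two_ne_zero).trans h1), tors_of_not_dvd h⟩

/-- **`E₆(q)`**, `r ≥ 7` -/
theorem rowM_e6_of_not_dvd {F : Type u} [Field F] [Fintype F] [CharP F p] (hr7 : 7 ≤ r)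
    (e : S ≃* ↥(chevE6.group F)) : RowM π S := by
  have := finW e6T
  refine rowM_untw_of_not_dvd hna d hrπ h2 hpπ e6T Cfsg.Agent.H572.ExcE.datE6 (by rw [card_E6]; norm_num)
    (fun h => ?_) (fun h => Cfsg.Agent.H795.NotAbRows.e6 h) (fun t ht h5 _ _ _ => torsE6 e6T ht h5) e
  rw [card_E6] at h
  have := dvd_51840 d.hr (by omega) h
  omega

/-- **`E₇(q)`**, `r ≥ 11` -/
theorem rowM_e7_of_not_dvd {F : Type u} [Field F] [Fintype F] [CharP F p] (hr7 : 11 ≤ r)
    (e : S ≃* ↥(chevE7.group F)) : RowM π S := by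
  have := finW e7T
  refine rowM_untw_of_not_dvd hna d hrπ h2 hpπ e7T Cfsg.Agent.H572.ExcE.datE7 (by rw [card_E7]; norm_num)
    (fun h => ?_) (fun h => Cfsg.Agent.H795.NotAbRows.e7 h) (fun t ht h5 _ _ _ => torsE7 e7T ht h5) e
  rw [card_E7] at h
  rcases dvd_2903040 d.hr (by omega) h with h | h <;> omega

/-- **`E₈(q)`**, `r ≥ 11` -/
theorem rowM_e8_of_not_dvd {F : Type u} [Field F] [Fintype F] [CharP F p] (hr7 : 11 ≤ r)
    (e : S ≃* ↥(chevE8.group F)) : RowM π S := by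
  have := finW e8T
  refine rowM_untw_of_not_dvd hna d hrπ h2 hpπ e8T Cfsg.Agent.H572.ExcE.datE8 (by rw [card_E8]; norm_num)
    (fun h => ?_) (fun h => Cfsg.Agent.H795.NotAbRows.e8 h) (fun t ht h5 htπ htr htF => ?_) e
  · rw [card_E8] at h
    rcases dvd_696729600 d.hr (by omega) h with h | h <;> omega
  · refine torsE8 e8T ht h5 ?_
    rintro rfl
    refine not_notAb_of_HA d ht htπ htr ?_
    have : Fact (Nat.Prime 5) := ⟨ht⟩
    exact NotAb.of_mulEquiv e.symm (Cfsg.Agent.H795.NotAbRows.e8_five (by exact_mod_cast htF))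

/-- **`²E₆(q)`**, `r ≥ 7` -/
theorem rowM_2E6_of_not_dvd {K : Type u} [Field K] [Fintype K] [CharP K p] {q : ℕ} (hq : IsPrimePow q)
    (hF : Fintype.card K = q ^ 2) (hr7 : 7 ≤ r) (e : S ≃* ↥(twistedE6 K q)) : RowM π S := by
  by_cases hrS : ¬ r ∣ Nat.card S
  · exact rowM_of_not_dvd_card d hrS
  rw [not_not] at hrS
  obtain ⟨p', n, hr, hrF, hrk, hn0, hn, hk⟩ := Cfsg.Agent.H795.Tw.exists_closure_q two_ne_zero hq hF
  have hrp : p = p' := CharP.eq K ‹_› hrF
  subst hrp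
  have hpp : p.Prime := Fact.out
  have hset := Cfsg.Agent.H795.Tw.setup_six (algebraMap K (AlgebraicClosure K)) p hk hn0 hn hF (p := 5) (by norm_num)
  have hfF : ∀ t : ℕ, t.Prime → t ∈ π → (t : K) ≠ 0 := fun t ht htπ =>
    cast_ne_zero_of_char (F := K) hpp ht (fun h => hpπ (h ▸ htπ))
  have h3π : 3 ∉ π := by
    intro h3π
    refine not_notAb_of_HA d Nat.prime_three h3π (by omega) ?_
    have : Fact (Nat.Prime 3) := ⟨Nat.prime_three⟩
    have h3F := hfF 3 Nat.prime_three h3π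
    exact NotAb.of_mulEquiv e.symm (Cfsg.Agent.H795.NotAbRows.twE6 (by exact_mod_cast h3F) hq hF)
  have hGf : Finite ↥(twistedE6 K q) := inferInstance
  have hcard : Nat.card S = Nat.card ↥(twistedE6 K q) := Nat.card_congr e.toEquiv
  have := finW hp6
  have hW : ¬ r ∣ Nat.card CoxeterMatrix.E₆.Group := by
    intro h
    rw [card_E6] at h
    have := dvd_51840 d.hr (by omega) h
    omega
  refine rowM_of_cenB hna d hrπ (CenB.of_equiv e ?_)
  refine cenB_of_not_dvd hp6 p hk hset.inj d.hr hW (hcard ▸ hrS) fun t ht htπ htr => ⟨fun h => hpπ (h ▸ htπ), ?_⟩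
  refine torsE6 hp6 ht ?_
  have h1 := ht.two_le
  rcases lt_or_ge t 5 with h | h
  · interval_cases t
    · exact absurd htπ h2
    · exact absurd htπ h3π
    · exact absurd ht (by decide)
  · exact h

end rows

end Cfsg.Agent.H408.RM
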