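import Cfsg.Agent.H408.RM.Eig
import Cfsg.Agent.H408.RM.Small
import Cfsg.Agent.H571.RM.RowC
import Cfsg.Agent.H953.Rank

/-!
# S3849 P4: the row `RowM` for isometry groups of symmetric and alternating forms, `2, p ∉ π` (helper408)
-/

set_option autoImplicit false
set_option linter.unusedSectionVars false
set_option linter.style.haveILetI false

namespace Cfsg.Agent.H408.RM

open Module Subgroup Cfsg Cfsg.Agent.H988.CPi Cfsg.Agent.H571.DExt Cfsg.Agent.H571.RV Cfsg.Agent.H571.RM
open scoped Pointwise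

universe u

section Base

variable {F K : Type*} [Field F] [Field K] [Algebra F K] {ι : Type*} [Fintype ι] [DecidableEq ι]
  {X : Type*} [Group X]

/-- the representation over the extension field -/
noncomputable def rep (K : Type*) [Field K] [Algebra F K] (M : X →* Matrix ι ι F) : X →* Module.End K (ι → K) where
  toFun x := Matrix.toLin' ((M x).map (algebraMap F K))
  map_one' := by
    rw [map_one, Matrix.map_one _ (map_zero _) (map_one _), Matrix.toLin'_one]
    rfl
  map_mul' x y := by
    rw [map_mul, Matrix.map_mul, Matrix.toLin'_mul]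
    rfl

theorem rep_apply (M : X →* Matrix ι ι F) (x : X) (v : ι → K) :
    rep K M x v = Matrix.mulVec ((M x).map (algebraMap F K)) v := by
  show Matrix.toLin' _ v = _
  rw [Matrix.toLin'_apply]

theorem rep_injective {M : X →* Matrix ι ι F} (hM : Function.Injective M) : Function.Injective (rep K M) := by
  intro x y h
  apply hM
  exact Matrix.map_injective (algebraMap F K).injective (Matrix.toLin'.injective h)

theorem finrank_rep (M : X →* Matrix ι ι F) (x : X) :
    finrank K (LinearMap.range (rep K M x - 1)) = (M x - 1).rank := by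
  rw [← H953.rank_map (algebraMap F K) (M x - 1), Matrix.map_sub _ (fun a b => map_sub _ a b),
    Matrix.map_one _ (map_zero _) (map_one _)]
  unfold Matrix.rank
  have h : (rep K M x - 1 : Module.End K (ι → K)) = ((M x).map (algebraMap F K) - 1).mulVecLin := by
    apply LinearMap.ext
    intro v
    rw [LinearMap.sub_apply, Module.End.one_apply, rep_apply, Matrix.mulVecLin_apply, Matrix.sub_mulVec,
      Matrix.one_mulVec]
  rw [h]

/-- the form over the extension field -/
noncomputable def frmK (K : Type*) [Field K] [Algebra F K] (J : Matrix ι ι F) : (ι → K) →ₗ[K] (ι → K) →ₗ[K] K :=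
  Matrix.toLinearMap₂' K (J.map (algebraMap F K))

theorem frmK_apply (J : Matrix ι ι F) (v w : ι → K) :
    frmK K J v w = dotProduct v (Matrix.mulVec (J.map (algebraMap F K)) w) := by
  rw [frmK, Matrix.toLinearMap₂'_apply']

theorem frmK_nondeg {J : Matrix ι ι F} (hJ : J.det ≠ 0) (v : ι → K) (h : ∀ w, frmK K J v w = 0) : v = 0 := by
  have h1 : (J.map (algebraMap F K)).det ≠ 0 := by
    rw [← RingHom.mapMatrix_apply, ← RingHom.map_det]
    exact fun h => hJ ((map_eq_zero_iff _ (algebraMap F K).injective).1 h)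
  have h2 := Matrix.nondegenerate_of_det_ne_zero h1
  exact h2.eq_zero_of_ortho fun w => by rw [← frmK_apply]; exact h w

theorem frmK_pres {M : X →* Matrix ι ι F} {J : Matrix ι ι F} (hpres : ∀ x, (M x).transpose * J * M x = J) (x : X)
    (v w : ι → K) : frmK K J (rep K M x v) (rep K M x w) = frmK K J v w := by
  rw [frmK_apply, frmK_apply, rep_apply, rep_apply]
  have h := congrArg (fun A : Matrix ι ι F => A.map (algebraMap F K)) (hpres x)
  simp only [Matrix.map_mul, Matrix.transpose_map] at h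
  rw [← Matrix.vecMul_transpose ((M x).map (algebraMap F K)) v, ← Matrix.dotProduct_mulVec, Matrix.mulVec_mulVec,
    Matrix.mulVec_mulVec, h]

end Base

/-- **the abstract row** -/
theorem rowM_of_mat {π : Set ℕ} {S : Type u} [Group S] [Finite S] [IsSimpleGroup S] (hna : ∃ a b : S, a * b ≠ b * a)
    {X : Type*} [Group X] [Finite X] (f : X →* S) (hf : Function.Surjective f) (hker : f.ker ≤ Subgroup.center X)
    (hker2 : ∀ x ∈ f.ker, x * x = 1) {F : Type*} [Field F] {p : ℕ} [Fact p.Prime] [CharP F p] {ι : Type*} [Fintype ι]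
    [DecidableEq ι] (M : X →* Matrix ι ι F) (hM : Function.Injective M) (J : Matrix ι ι F) (hJ : J.det ≠ 0)
    (hpres : ∀ x, (M x).transpose * J * M x = J)
    (hsmall : ∀ r : ℕ, r.Prime → r ≠ 2 → (r : F) ≠ 0 → ∀ y : X, y ^ r = 1 → y ≠ 1 →
      ∃ z : X, z ^ r = 1 ∧ z ≠ 1 ∧ (M z - 1).rank ≤ r - 1)
    (h2 : 2 ∉ π) (hp : p ∉ π) (hFH : Dom π S → FHall π S) : RowM π S := by
  by_cases hD : Dom π S
  swap
  · exact fun _ h => absurd h hD
  obtain ⟨r, H, A, d⟩ := FHall.exists_HA (hFH hD)
  have hrp : Fact r.Prime := ⟨d.hr⟩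
  by_cases hAH : A.relIndex H = 1
  · -- abelian Hall subgroup
    have h1 : H ≤ A := relIndex_eq_one.1 hAH
    have hn : Group.IsNilpotent H := by
      letI : CommGroup H := { (inferInstance : Group H) with
        mul_comm := fun a b => Subtype.ext (d.ab _ (h1 a.2) _ (h1 b.2)) }
      infer_instance
    exact her_rowM (her_of_nilpotent d.hall hn)
  -- `r ∈ π` divides `|S|`
  obtain ⟨s, hs, hsd⟩ := Nat.exists_prime_and_dvd hAH
  have hsr := d.idx s hs hsd
  subst hsr
  have hrH : s ∣ Nat.card H := hsd.trans (Subgroup.relIndex_dvd_card A H)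
  have hrπ : s ∈ π := d.hall.1 s hs hrH
  have hs2 : s ≠ 2 := fun h => h2 (h ▸ hrπ)
  have hsp : s ≠ p := fun h => hp (h ▸ hrπ)
  have hsF : (s : F) ≠ 0 := by
    rw [Ne, CharP.cast_eq_zero_iff F p, Nat.prime_dvd_prime_iff_eq (Fact.out : p.Prime) hs]
    exact fun h => hsp h.symm
  have hodd : Odd s := hs.odd_of_ne_two hs2
  -- an element of order `r` of `X`
  obtain ⟨y, hy1, hyr⟩ : ∃ y : X, y ≠ 1 ∧ y ^ s = 1 := by
    have h1 : s ∣ Nat.card S := hrH.trans (Subgroup.card_subgroup_dvd_card H)
    obtain ⟨x, hx⟩ := exists_prime_orderOf_dvd_card' (G := S) s h1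
    obtain ⟨x', rfl⟩ := hf x
    refine ⟨x' * x', ?_, ?_⟩
    · intro h
      have h3 : f x' ^ 2 = 1 := by rw [pow_two, ← map_mul, h, map_one]
      have h4 := orderOf_dvd_of_pow_eq_one h3
      rw [hx] at h4
      exact hs2 ((Nat.prime_dvd_prime_iff_eq hs Nat.prime_two).1 h4)
    · rw [← pow_two, ← pow_mul, mul_comm, pow_mul, pow_two]
      apply hker2
      rw [MonoidHom.mem_ker, map_pow, ← hx, pow_orderOf_eq_one]
  obtain ⟨z, hzr, hz1, hzrk⟩ := hsmall s hs hs2 hsF y hyr hy1
  have hfz : f z ≠ 1 := by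
    intro h
    have h1 : z ^ 2 = 1 := by rw [pow_two]; exact hker2 z h
    have h3 : orderOf z ∣ s := orderOf_dvd_of_pow_eq_one hzr
    have h4 : orderOf z ∣ 2 := orderOf_dvd_of_pow_eq_one h1
    have h5 : orderOf z ∣ 1 := by
      have h6 : Nat.Coprime s 2 := (Nat.coprime_primes hs Nat.prime_two).2 hs2
      rw [← h6]; exact Nat.dvd_gcd h3 h4
    exact hz1 (orderOf_eq_one_iff.1 (Nat.dvd_one.1 h5))
  -- the lift of `A`
  have hcop : (Nat.card A).Coprime (Nat.card f.ker) := by
    have h1 : IsPGroup 2 f.ker := fun x => ⟨1, by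
      rw [pow_one]
      apply Subtype.ext
      rw [Subgroup.coe_pow, pow_two, Subgroup.coe_one]
      exact hker2 x x.2⟩
    have : Fact (Nat.Prime 2) := ⟨Nat.prime_two⟩
    obtain ⟨n, hn⟩ := IsPGroup.iff_card.1 h1
    rw [hn]
    apply Nat.Coprime.pow_right
    rw [Nat.coprime_comm, Nat.Prime.coprime_iff_not_dvd Nat.prime_two]
    intro h
    exact h2 (d.hall.1 2 Nat.prime_two (h.trans (Subgroup.card_dvd_of_le d.ale)))
  obtain ⟨A', hA'map, hA'ab, hA'card, hA'mem, hA'nor⟩ := exists_lift_A f hf hker d.ab hcop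
  have hAodd : Odd (Nat.card A) := by
    rw [← Nat.not_even_iff_odd, even_iff_two_dvd]
    exact fun h => h2 (d.hall.1 2 Nat.prime_two (h.trans (Subgroup.card_dvd_of_le d.ale)))
  have hAp : ¬ p ∣ Nat.card A := fun h => hp (d.hall.1 p Fact.out (h.trans (Subgroup.card_dvd_of_le d.ale)))
  refine rowM_of_z_cover f hna d hrπ hf (le_of_eq hA'map.symm) hfz ⟨1, by rw [pow_one]; exact hzr⟩
    fun _ g hg a ha => ?_
  let K := AlgebraicClosure F
  have hKp : CharP K p := charP_of_injective_algebraMap (algebraMap F K).injective p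
  have hnor : g * z * g⁻¹ ∈ normalizer (A' : Set X) := hA'nor _ (d.nor hg)
  have key := comm_of_rank (K := K) (rep K M) (A := A') hA'ab (N := Nat.card A) (by
      rw [Ne, CharP.cast_eq_zero_iff K p]; exact hAp) hAodd (fun x hx => ((hA'mem x).2 hx).2) (z := g * z * g⁻¹)
    (fun x hx => (Subgroup.mem_normalizer_iff.1 hnor x).1 hx) (r := s) hs hs2
    (by rw [conj_pow, hzr, mul_one, mul_inv_cancel]) (frmK K J) (frmK_nondeg hJ) (fun x _ v w => frmK_pres hpres x v w)
    (by
      rw [finrank_rep]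
      have h1 : (M (g * z * g⁻¹) - 1).rank ≤ (M z - 1).rank := by
        have h3 : M (g * z * g⁻¹) - 1 = M g * (M z - 1) * M g⁻¹ := by
          rw [mul_sub, sub_mul, ← map_mul, ← map_mul, mul_one, ← map_mul, mul_inv_cancel, map_one]
        rw [h3]
        exact (Matrix.rank_mul_le_left _ _).trans (Matrix.rank_mul_le_right _ _)
      have h4 := hs.two_le
      omega) ha
  have h1 := rep_injective hM key
  rw [mul_inv_eq_iff_eq_mul] at h1
  exact h1

end Cfsg.Agent.H408.RM
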