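import Cfsg.Agent.H408.RM.Form
import Cfsg.Agent.H572.RV.Rows
import Cfsg.Agent.LieClassical.SympCenter

/-!
# S3849 P4: `RowM` for `PSp` and `POmega`, `2, p ∉ π` (helper408)
-/

set_option autoImplicit false
set_option linter.unusedSectionVars false

namespace Cfsg.Agent.H408.RM

open Module Matrix Cfsg Cfsg.Agent.H988.CPi Cfsg.Agent.H571.DExt Cfsg.Agent.H571.RV Cfsg.Agent.H571.RM
open Cfsg.Agent.H170.HL

universe u

variable {π : Set ℕ} {S : Type u} [Group S] [Finite S] [IsSimpleGroup S]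

omit [Finite S] [IsSimpleGroup S] in
theorem exists_noncomm (hna : ¬ IsMulCommutative S) : ∃ a b : S, a * b ≠ b * a := by
  by_contra h
  push Not at h
  exact hna ⟨⟨h⟩⟩

theorem rank_of_rk {F : Type*} [Field F] {ι : Type*} [Fintype ι] [DecidableEq ι] {X : Type*} [Group X]
    (μ : X →* Matrix ι ι F) (x : X) :
    (μ x - 1).rank = Cfsg.Agent.H167.OP.rk (Cfsg.Agent.H170.HL.rep μ) x := by
  unfold Matrix.rank Cfsg.Agent.H167.OP.rk
  have h : (Cfsg.Agent.H170.HL.rep μ x - 1 : Module.End F (ι → F)) = (μ x - 1).mulVecLin := by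
    apply LinearMap.ext
    intro v
    rw [LinearMap.sub_apply, Module.End.one_apply, Cfsg.Agent.H170.HL.rep_apply, Matrix.mulVecLin_apply,
      Matrix.sub_mulVec, Matrix.one_mulVec]
  rw [h]

theorem dvd_card_of {X : Type*} [Group X] [Finite X] {r : ℕ} (hr : r.Prime) {y : X} (hy : y ^ r = 1) (hy1 : y ≠ 1) :
    r ∣ Nat.card X := by
  have : Fact r.Prime := ⟨hr⟩
  rw [← orderOf_eq_prime hy hy1]
  exact orderOf_dvd_natCard y

/-- **`PSp`** -/
theorem rowM_psp (hna : ¬ IsMulCommutative S) {p : ℕ} (hS : IsPSpChar p S) (h2 : 2 ∉ π) (hpπ : p ∉ π) : RowM π S := by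
  have hS' := hS
  obtain ⟨F, _, _, hchar, m, hm, hm2, ⟨e⟩⟩ := hS
  have hp : p.Prime := CharP.char_is_prime F p
  have hpf : Fact p.Prime := ⟨hp⟩
  have hfin : Finite (symplecticGroup (Fin m) F) := inferInstance
  let φ : symplecticGroup (Fin m) F →* S :=
    (e.symm : Cfsg.PSp m F →* S).comp (QuotientGroup.mk' (Subgroup.center (symplecticGroup (Fin m) F)))
  have hφ : Function.Surjective φ := e.symm.surjective.comp (QuotientGroup.mk'_surjective _)
  have hφ1 : φ.ker ≤ Subgroup.center (symplecticGroup (Fin m) F) := by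
    intro k h
    have h1 : (QuotientGroup.mk' (Subgroup.center (symplecticGroup (Fin m) F))) k = 1 :=
      e.symm.injective (h.trans (map_one e.symm).symm)
    rwa [QuotientGroup.mk'_apply, QuotientGroup.eq_one_iff] at h1
  refine rowM_of_mat (exists_noncomm hna) φ hφ hφ1 (fun x hx => ?_) (F := F) (p := p) (SpRow.inc m F)
    SpRow.inc_injective (J (Fin m) F) ?_ (fun x => SymplecticGroup.mem_iff'.mp x.2) (fun r hr hr2 hrF y hy hy1 => ?_)
    h2 hpπ (fun hD => Cfsg.Agent.H572.RV.fhall_psp hS' h2 hpπ ?_)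
  · obtain ⟨c, hc⟩ := (LieClassical.SympCenter.mem_center_iff m x).1 (hφ1 hx)
    have h4 := SymplecticGroup.mem_iff.1 x.2
    rw [hc, Matrix.smul_mul, Matrix.one_mul, Matrix.transpose_smul, Matrix.transpose_one, Matrix.mul_smul,
      Matrix.mul_one, smul_smul] at h4
    have h7 := congrArg (fun M => M * Matrix.J (Fin m) F) h4
    simp only [Matrix.smul_mul, Matrix.J_squared] at h7
    rw [smul_neg, neg_inj] at h7
    apply Subtype.ext
    show x.1 * x.1 = 1
    rw [hc, Matrix.smul_mul, Matrix.one_mul, smul_smul, h7]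
  · intro h
    have h1 : (J (Fin m) F * J (Fin m) F).det = 0 := by rw [det_mul, h, mul_zero]
    rw [J_squared, det_neg, det_one, mul_one] at h1
    exact pow_ne_zero _ (neg_ne_zero.2 one_ne_zero) h1
  · obtain ⟨z, hz, hzr, hrk⟩ := SpRow.exists_small_sp (F := F) (m := m) hr (hr.odd_of_ne_two hr2) hrF
      (dvd_card_of hr hy hy1)
    refine ⟨z, hzr, fun h => hz (h ▸ one_mem _), ?_⟩
    rw [rank_of_rk]
    exact hrk
  · obtain ⟨H, hH, -⟩ := hD
    exact ⟨H, hH⟩

/-- a form version -/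
theorem rowM_omega (hna : ¬ IsMulCommutative S) {p : ℕ} {F : Type*} [Field F] [Finite F] [CharP F p]
    {ι : Type} [Fintype ι] [DecidableEq ι] {Q : QuadraticForm F (ι → F)} (hQ : OmRow.GoodQ Q)
    {Q' : (ι → F) → F} (hQQ : ⇑Q = Q') (e : S ≃* Cfsg.POmega F Q') (h2 : 2 ∉ π) (hpπ : p ∉ π) : RowM π S := by
  subst hQQ
  have hp : p.Prime := CharP.char_is_prime F p
  have hpf : Fact p.Prime := ⟨hp⟩
  have hfin : Finite (Cfsg.isometryGroup F (⇑Q)) := inferInstance
  let φ : Cfsg.Omega F (⇑Q) →* S :=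
    (e.symm : Cfsg.POmega F (⇑Q) →* S).comp
      (QuotientGroup.mk' (Subgroup.center (Cfsg.Omega F (⇑Q))))
  have hφ : Function.Surjective φ :=
    e.symm.surjective.comp (QuotientGroup.mk'_surjective _)
  have hφ1 : φ.ker ≤ Subgroup.center (Cfsg.Omega F (⇑Q)) := by
    intro k h
    have h1 : (QuotientGroup.mk' (Subgroup.center (Cfsg.Omega F (⇑Q)))) k = 1 :=
      e.symm.injective (h.trans (map_one e.symm).symm)
    rwa [QuotientGroup.mk'_apply, QuotientGroup.eq_one_iff] at h1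
  have hinv : ∀ x : Cfsg.Omega F (⇑Q), ∀ u v, QuadraticMap.polarBilin Q (OmRow.inc (⇑Q) x *ᵥ u) (OmRow.inc (⇑Q) x *ᵥ v) =
      QuadraticMap.polarBilin Q u v := fun x u v => OmRow.polar_apply Q (x : Cfsg.isometryGroup F (⇑Q)) u v
  refine rowM_of_mat (exists_noncomm hna) φ hφ hφ1 (fun x hx => ?_) (F := F) (p := p) (OmRow.inc (⇑Q))
    OmRow.inc_injective (LinearMap.toMatrix₂' F (QuadraticMap.polarBilin Q)) ?_ (fun x => ?_)
    (fun r hr hr2 hrF y hy hy1 => ?_)
    h2 hpπ (fun hD => Cfsg.Agent.H572.RV.fhall_omega hQ rfl e h2 hpπ ?_)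
  · have h1 := (Cfsg.Agent.LieClassical.OmegaCenter.mem_center_omega_iff Q hQ.nd hQ.card hQ.sing x).mp (hφ1 hx)
    apply OmRow.inc_injective
    rw [map_mul, map_one]
    have h1' : OmRow.inc (⇑Q) x = 1 ∨ OmRow.inc (⇑Q) x = -1 := h1
    rcases h1' with h | h
    · rw [h, one_mul]
    · rw [h, neg_mul_neg, one_mul]
  · rw [← Matrix.nondegenerate_iff_det_ne_zero]
    exact hQ.nd.toMatrix₂'
  · have h1 := LinearMap.toMatrix₂'_compl₁₂ (QuadraticMap.polarBilin Q) (Matrix.toLin' (OmRow.inc (⇑Q) x))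
      (Matrix.toLin' (OmRow.inc (⇑Q) x))
    rw [LinearMap.toMatrix'_toLin'] at h1
    rw [← h1]
    congr 1
    apply LinearMap.ext
    intro u
    apply LinearMap.ext
    intro v
    exact hinv x u v
  · obtain ⟨z, hz, hzr, hrk⟩ := OmRow.exists_small_om hQ hr (hr.odd_of_ne_two hr2) hrF
      (dvd_card_of hr hy hy1)
    refine ⟨z, hzr, fun h => hz (h ▸ one_mem _), ?_⟩
    rw [rank_of_rk]
    exact hrk
  · obtain ⟨H, hH, -⟩ := hD
    exact ⟨H, hH⟩

/-- **`POmega`, odd dimension** -/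
theorem rowM_pomegaOdd (hna : ¬ IsMulCommutative S) {p : ℕ} (hS : IsPOmegaOddChar p S) (h2 : 2 ∉ π)
    (hpπ : p ∉ π) : RowM π S := by
  obtain ⟨F, _, _, hchar, m, hm, hodd, ⟨e⟩⟩ := hS
  have h2' : (2 : F) ≠ 0 := by
    intro h
    have h1 : ((2 : ℕ) : F) = 0 := by exact_mod_cast h
    have hp : p.Prime := CharP.char_is_prime F p
    rw [CharP.cast_eq_zero_iff F p, Nat.prime_dvd_prime_iff_eq hp Nat.prime_two] at h1
    subst h1
    obtain ⟨n, hn⟩ := FiniteField.card F 2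
    rw [hn.2] at hodd
    have : Even (2 ^ (n : ℕ)) := (Nat.even_pow.mpr ⟨even_two, n.ne_zero⟩)
    exact (Nat.not_even_iff_odd.mpr hodd) this
  exact rowM_omega hna (OmRow.goodQ_odd (by omega) h2') (Cfsg.Agent.LieClassical.OrthForms.coe_oddForm m F) e h2 hpπ

/-- **`POmega`, plus type** -/
theorem rowM_pomegaPlus (hna : ¬ IsMulCommutative S) {p : ℕ} (hS : IsPOmegaPlusChar p S) (h2 : 2 ∉ π)
    (hpπ : p ∉ π) : RowM π S := by
  obtain ⟨F, _, _, hchar, m, hm, ⟨e⟩⟩ := hS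
  exact rowM_omega hna (OmRow.goodQ_plus (by omega)) (Cfsg.Agent.LieClassical.OrthForms.coe_plusForm m F) e h2 hpπ

/-- **`POmega`, minus type** -/
theorem rowM_pomegaMinus (hna : ¬ IsMulCommutative S) {p : ℕ} (hS : IsPOmegaMinusChar p S) (h2 : 2 ∉ π)
    (hpπ : p ∉ π) : RowM π S := by
  obtain ⟨F, _, _, hchar, m, a, b, hm, hab, ⟨e⟩⟩ := hS
  exact rowM_omega hna (OmRow.goodQ_minus (by omega) a b hab)
    (Cfsg.Agent.LieClassical.OrthForms.coe_minusForm (m - 1) F a b) e h2 hpπ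

end Cfsg.Agent.H408.RM
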