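import Cfsg.Agent.H408.RM.ChkL

/-!
# S3849, P10: the table of `E6`, `s = 5` (helper408)
-/

set_option autoImplicit false
set_option maxRecDepth 100000
set_option maxHeartbeats 4000000

namespace Cfsg.Agent.H408.RM.E6Five

open Cfsg Cfsg.Lie Cfsg.Lie.ChevalleyDatum Cfsg.Agent.Nodes.RGDChev Cfsg.Agent.H408.RM Cfsg.Agent.H169.RM
open Cfsg.Agent.H167.RV (crd)

/-- the functionals -/
def Nf : Fin 2 → Fin 6 → ℤ := ![![4, 1, 0, 3, 1, 0], ![0, 2, 4, 1, 0, 1]]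

/-- the functionals -/
def N : List (List ℤ) := [[4, 1, 0, 3, 1, 0], [0, 2, 4, 1, 0, 1]]

theorem hN : N = List.ofFn fun j => List.ofFn (Nf j) := by decide +kernel

/-- the digits and the coordinates of the roots -/
def T : List (List ℕ × List ℤ) := [
  ([3, 4], [-1, -2, -2, -3, -2, -1]),
  ([4, 1], [-1, -1, -2, -3, -2, -1]),
  ([2, 2], [-1, -1, -2, -2, -2, -1]),
  ([3, 2], [-1, -1, -2, -2, -1, -1]),
  ([3, 3], [-1, -1, -2, -2, -1, 0]),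
  ([2, 1], [-1, -1, -1, -2, -2, -1]),
  ([3, 1], [-1, -1, -1, -2, -1, -1]),
  ([3, 2], [-1, -1, -1, -2, -1, 0]),
  ([1, 2], [-1, -1, -1, -1, -1, -1]),
  ([1, 3], [-1, -1, -1, -1, -1, 0]),
  ([2, 3], [-1, -1, -1, -1, 0, 0]),
  ([2, 4], [-1, 0, -1, -1, -1, -1]),
  ([2, 0], [-1, 0, -1, -1, -1, 0]),
  ([3, 0], [-1, 0, -1, -1, 0, 0]),
  ([1, 1], [-1, 0, -1, 0, 0, 0]),
  ([1, 0], [-1, 0, 0, 0, 0, 0]),
  ([1, 1], [0, -1, -1, -2, -2, -1]),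
  ([2, 1], [0, -1, -1, -2, -1, -1]),
  ([2, 2], [0, -1, -1, -2, -1, 0]),
  ([0, 2], [0, -1, -1, -1, -1, -1]),
  ([0, 3], [0, -1, -1, -1, -1, 0]),
  ([1, 3], [0, -1, -1, -1, 0, 0]),
  ([0, 1], [0, -1, 0, -1, -1, -1]),
  ([0, 2], [0, -1, 0, -1, -1, 0]),
  ([1, 2], [0, -1, 0, -1, 0, 0]),
  ([4, 3], [0, -1, 0, 0, 0, 0]),
  ([1, 4], [0, 0, -1, -1, -1, -1]),
  ([1, 0], [0, 0, -1, -1, -1, 0]),
  ([2, 0], [0, 0, -1, -1, 0, 0]),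
  ([0, 1], [0, 0, -1, 0, 0, 0]),
  ([1, 3], [0, 0, 0, -1, -1, -1]),
  ([1, 4], [0, 0, 0, -1, -1, 0]),
  ([2, 4], [0, 0, 0, -1, 0, 0]),
  ([4, 4], [0, 0, 0, 0, -1, -1]),
  ([4, 0], [0, 0, 0, 0, -1, 0]),
  ([0, 4], [0, 0, 0, 0, 0, -1]),
  ([0, 1], [0, 0, 0, 0, 0, 1]),
  ([1, 0], [0, 0, 0, 0, 1, 0]),
  ([1, 1], [0, 0, 0, 0, 1, 1]),
  ([3, 1], [0, 0, 0, 1, 0, 0]),
  ([4, 1], [0, 0, 0, 1, 1, 0]),
  ([4, 2], [0, 0, 0, 1, 1, 1]),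
  ([0, 4], [0, 0, 1, 0, 0, 0]),
  ([3, 0], [0, 0, 1, 1, 0, 0]),
  ([4, 0], [0, 0, 1, 1, 1, 0]),
  ([4, 1], [0, 0, 1, 1, 1, 1]),
  ([1, 2], [0, 1, 0, 0, 0, 0]),
  ([4, 3], [0, 1, 0, 1, 0, 0]),
  ([0, 3], [0, 1, 0, 1, 1, 0]),
  ([0, 4], [0, 1, 0, 1, 1, 1]),
  ([4, 2], [0, 1, 1, 1, 0, 0]),
  ([0, 2], [0, 1, 1, 1, 1, 0]),
  ([0, 3], [0, 1, 1, 1, 1, 1]),
  ([3, 3], [0, 1, 1, 2, 1, 0]),
  ([3, 4], [0, 1, 1, 2, 1, 1]),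
  ([4, 4], [0, 1, 1, 2, 2, 1]),
  ([4, 0], [1, 0, 0, 0, 0, 0]),
  ([4, 4], [1, 0, 1, 0, 0, 0]),
  ([2, 0], [1, 0, 1, 1, 0, 0]),
  ([3, 0], [1, 0, 1, 1, 1, 0]),
  ([3, 1], [1, 0, 1, 1, 1, 1]),
  ([3, 2], [1, 1, 1, 1, 0, 0]),
  ([4, 2], [1, 1, 1, 1, 1, 0]),
  ([4, 3], [1, 1, 1, 1, 1, 1]),
  ([2, 3], [1, 1, 1, 2, 1, 0]),
  ([2, 4], [1, 1, 1, 2, 1, 1]),
  ([3, 4], [1, 1, 1, 2, 2, 1]),
  ([2, 2], [1, 1, 2, 2, 1, 0]),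
  ([2, 3], [1, 1, 2, 2, 1, 1]),
  ([3, 3], [1, 1, 2, 2, 2, 1]),
  ([1, 4], [1, 1, 2, 3, 2, 1]),
  ([2, 1], [1, 2, 2, 3, 2, 1])]

theorem hT : T = (List.range chevE6.nroots).map fun b => (dg 5 N (crd chevE6 6 b), crd chevE6 6 b) := by
  decide +kernel

/-- the lines, block 0 -/
def L0 : List LD := [
  ⟨[1, 0], [[0, 1, 0, 0, 0, 0], [0, 0, -1, 1, 0, 0], [0, 0, 0, 0, 0, 1]], 3275608086612877789581, [(1, 2, 32), (4, 2, 38), (5, 2, 42), (6, 3, 42), (9, 2, 45), (10, 3, 45), (12, 2, 52), (13, 3, 52), (15, 7, 53), (16, 2, 57), (17, 3, 57), (20, 2, 60), (21, 3, 60), (22, 8, 57), (25, 8, 60), (27, 2, 63), (28, 3, 63), (34, 2, 68), (37, 3, 69), (43, 8, 68), (44, 8, 69), (46, 11, 63), (49, 14, 63), (50, 11, 68), (51, 11, 69), (54, 14, 68), (55, 14, 69), (56, 18, 64), (58, 19, 68), (59, 19, 69), (61, 26, 68), (62, 26, 69), (65, 29,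 68), (66, 29, 69), (67, 33, 69), (70, 39, 69)]⟩,
  ⟨[1, 1], [[-1, -1, 1, 0, 0, 0], [0, -2, 0, 1, 0, 0], [0, 1, 0, 0, -1, 1]], 429559363540638929640, [(0, 3, 23), (1, 3, 31), (2, 3, 34), (4, 3, 36), (8, 3, 43), (10, 3, 45), (11, 3, 50), (13, 3, 52), (14, 3, 54), (16, 5, 56), (18, 7, 56), (20, 9, 56), (22, 5, 59), (24, 7, 59), (27, 12, 56), (30, 5, 62), (32, 7, 62), (33, 5, 64), (38, 7, 66), (39, 9, 64), (41, 9, 66), (44, 15, 59), (47, 12, 64), (49, 12, 66), (51, 15, 62), (53, 15, 64), (55, 15, 66), (57, 17, 68), (58, 19, 68), (60, 21, 68), (61, 26, 68), (63, 28, 68), (67, 35, 68), (69, 37, 68), (70, 40, 68), (71, 48, 68)]⟩,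
  ⟨[1, 2], [[-1, 0, 1, 0, 0, 0], [-1, 0, 0, 0, 1, 0], [-1, 0, 0, 0, 0, 1]], 540275786411137536696, [(0, 3, 23), (1, 3, 31), (2, 3, 34), (6, 3, 42), (8, 3, 43), (10, 3, 45), (11, 3, 50), (13, 3, 52), (14, 3, 54), (18, 7, 56), (20, 9, 56), (22, 5, 59), (24, 7, 59), (25, 9, 59), (27, 12, 56), (30, 5, 62), (32, 7, 62), (33, 5, 64), (38, 7, 66), (39, 9, 64), (41, 9, 66), (44, 15, 59), (46, 12, 62), (47, 12, 64), (49, 12, 66), (51, 15, 62), (53, 15, 64), (57, 17, 68), (58, 19, 68), (60, 21, 68), (61, 26, 68), (63, 28, 68), (65, 29, 68), (69, 37, 68), (70, 40, 68), (71, 48, 68)]⟩,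
  ⟨[1, 3], [[0, -1, 1, 0, 0, 0], [-1, 1, 0, -1, 1, 0], [0, 1, 0, -1, 0, 1]], 914713090946430167436, [(0, 2, 24), (1, 2, 32), (4, 2, 38), (5, 2, 42), (6, 3, 42), (9, 2, 45), (10, 3, 45), (12, 2, 52), (15, 7, 53), (16, 2, 57), (17, 3, 57), (20, 2, 60), (21, 3, 60), (22, 8, 57), (25, 8, 60), (28, 3, 63), (30, 11, 57), (34, 2, 68), (37, 3, 69), (41, 14, 60), (43, 8, 68), (46, 11, 63), (49, 14, 63), (50, 11, 68), (51, 11, 69), (54, 14, 68), (55, 14, 69), (56, 18, 64), (59, 19, 69), (61, 26, 68), (62, 26, 69), (65, 29, 68), (66, 29, 69), (67, 33, 69), (70, 39, 69), (71, 47, 69)]⟩,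
  ⟨[1, 4], [[-1, 1, 0, 0, 0, 0], [1, 0, 0, -1, 1, 0], [1, 0, -1, 0, 0, 1]], 679894512521300073252, [(0, 2, 24), (1, 2, 32), (3, 2, 37), (4, 2, 38), (6, 5, 37), (7, 5, 38), (10, 8, 38), (13, 11, 38), (16, 2, 57), (19, 2, 59), (23, 5, 60), (25, 8, 60), (26, 2, 62), (27, 2, 63), (29, 2, 66), (30, 5, 62), (31, 5, 63), (35, 8, 62), (36, 9, 63), (40, 8, 66), (41, 9, 66), (42, 5, 69), (44, 8, 69), (45, 9, 69), (46, 11, 63), (48, 11, 66), (52, 12, 69), (55, 14, 69), (58, 33, 60), (61, 33, 63), (64, 33, 66), (65, 34, 66), (67, 33, 69), (68, 34, 69), (70, 39, 69), (71, 47, 69)]⟩,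
  ⟨[0, 1], [[1, 0, 0, 0, 0, 0], [0, -1, 0, 1, 0, 0], [0, -1, 0, 0, 1, 0]], 1862789161498152722214, [(0, 2, 24), (3, 2, 37), (4, 2, 38), (6, 5, 37), (7, 5, 38), (13, 11, 38), (16, 2, 57), (19, 2, 59), (20, 2, 60), (22, 5, 59), (23, 5, 60), (25, 8, 60), (26, 2, 62), (27, 2, 63), (29, 2, 66), (30, 5, 62), (31, 5, 63), (35, 8, 62), (36, 9, 63), (40, 8, 66), (41, 9, 66), (42, 5, 69), (44, 8, 69), (45, 9, 69), (46, 11, 63), (48, 11, 66), (49, 12, 66), (51, 11, 69), (52, 12, 69), (55, 14, 69), (58, 33, 60), (64, 33, 66), (65, 34, 66), (67, 33, 69), (68, 34, 69), (71, 47, 69)]⟩]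

theorem hL0 : (L0.all fun L => chkLine chevE6 5 memA T L) = true := by decide +kernel

/-- all lines -/
def LL : List LD := L0

theorem hLL : LL.map LD.P = reps 5 2 := by decide +kernel

theorem hmu : (LL.all fun L => L.mu.all fun u => Nat.beq u.length 6) = true := by decide +kernel

theorem hL : ∀ L ∈ LL, chkLine chevE6 5 memA T L = true := by
  intro L hL
  exact List.all_eq_true.1 hL0 L hL

/-- **the table** -/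
theorem chkF : ChkF chevE6 6 5 (fun j b => ∑ i, Nf j i * vec chevE6 6 b i) :=
  chkF_of (by norm_num) Nf hN memA hT hLL hmu hL

end Cfsg.Agent.H408.RM.E6Five
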