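import Cfsg.Agent.H408.RM.ChkL

/-!
# S3849, P10: the table of `E7`, `s = 5` (helper408)
-/

set_option autoImplicit false
set_option maxRecDepth 100000
set_option maxHeartbeats 4000000

namespace Cfsg.Agent.H408.RM.E7Five

open Cfsg Cfsg.Lie Cfsg.Lie.ChevalleyDatum Cfsg.Agent.Nodes.RGDChev Cfsg.Agent.H408.RM Cfsg.Agent.H169.RM
open Cfsg.Agent.H167.RV (crd)

/-- the functionals -/
def Nf : Fin 2 → Fin 7 → ℤ := ![![3, 4, 4, 2, 2, 1, 0], ![2, 3, 0, 4, 3, 0, 1]]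

/-- the functionals -/
def N : List (List ℤ) := [[3, 4, 4, 2, 2, 1, 0], [2, 3, 0, 4, 3, 0, 1]]

theorem hN : N = List.ofFn fun j => List.ofFn (Nf j) := by decide +kernel

/-- the digits and the coordinates of the roots -/
def T : List (List ℕ × List ℤ) := [
  ([3, 4], [-2, -2, -3, -4, -3, -2, -1]),
  ([1, 1], [-1, -2, -3, -4, -3, -2, -1]),
  ([0, 1], [-1, -2, -2, -4, -3, -2, -1]),
  ([2, 0], [-1, -2, -2, -3, -3, -2, -1]),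
  ([4, 3], [-1, -2, -2, -3, -2, -2, -1]),
  ([0, 3], [-1, -2, -2, -3, -2, -1, -1]),
  ([0, 4], [-1, -2, -2, -3, -2, -1, 0]),
  ([1, 3], [-1, -1, -2, -3, -3, -2, -1]),
  ([3, 1], [-1, -1, -2, -3, -2, -2, -1]),
  ([4, 1], [-1, -1, -2, -3, -2, -1, -1]),
  ([4, 2], [-1, -1, -2, -3, -2, -1, 0]),
  ([0, 0], [-1, -1, -2, -2, -2, -2, -1]),
  ([1, 0], [-1, -1, -2, -2, -2, -1, -1]),
  ([1, 1], [-1, -1, -2, -2, -2, -1, 0]),
  ([3, 3], [-1, -1, -2, -2, -1, -1, -1]),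
  ([3, 4], [-1, -1, -2, -2, -1, -1, 0]),
  ([4, 4], [-1, -1, -2, -2, -1, 0, 0]),
  ([4, 0], [-1, -1, -1, -2, -2, -2, -1]),
  ([0, 0], [-1, -1, -1, -2, -2, -1, -1]),
  ([0, 1], [-1, -1, -1, -2, -2, -1, 0]),
  ([2, 3], [-1, -1, -1, -2, -1, -1, -1]),
  ([2, 4], [-1, -1, -1, -2, -1, -1, 0]),
  ([3, 4], [-1, -1, -1, -2, -1, 0, 0]),
  ([4, 2], [-1, -1, -1, -1, -1, -1, -1]),
  ([4, 3], [-1, -1, -1, -1, -1, -1, 0]),
  ([0, 3], [-1, -1, -1, -1, -1, 0, 0]),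
  ([2, 1], [-1, -1, -1, -1, 0, 0, 0]),
  ([3, 0], [-1, 0, -1, -1, -1, -1, -1]),
  ([3, 1], [-1, 0, -1, -1, -1, -1, 0]),
  ([4, 1], [-1, 0, -1, -1, -1, 0, 0]),
  ([1, 4], [-1, 0, -1, -1, 0, 0, 0]),
  ([3, 3], [-1, 0, -1, 0, 0, 0, 0]),
  ([2, 3], [-1, 0, 0, 0, 0, 0, 0]),
  ([2, 2], [0, -1, -1, -2, -2, -2, -1]),
  ([3, 2], [0, -1, -1, -2, -2, -1, -1]),
  ([3, 3], [0, -1, -1, -2, -2, -1, 0]),
  ([0, 0], [0, -1, -1, -2, -1, -1, -1]),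
  ([0, 1], [0, -1, -1, -2, -1, -1, 0]),
  ([1, 1], [0, -1, -1, -2, -1, 0, 0]),
  ([2, 4], [0, -1, -1, -1, -1, -1, -1]),
  ([2, 0], [0, -1, -1, -1, -1, -1, 0]),
  ([3, 0], [0, -1, -1, -1, -1, 0, 0]),
  ([0, 3], [0, -1, -1, -1, 0, 0, 0]),
  ([1, 4], [0, -1, 0, -1, -1, -1, -1]),
  ([1, 0], [0, -1, 0, -1, -1, -1, 0]),
  ([2, 0], [0, -1, 0, -1, -1, 0, 0]),
  ([4, 3], [0, -1, 0, -1, 0, 0, 0]),
  ([1, 2], [0, -1, 0, 0, 0, 0, 0]),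
  ([1, 2], [0, 0, -1, -1, -1, -1, -1]),
  ([1, 3], [0, 0, -1, -1, -1, -1, 0]),
  ([2, 3], [0, 0, -1, -1, -1, 0, 0]),
  ([4, 1], [0, 0, -1, -1, 0, 0, 0]),
  ([1, 0], [0, 0, -1, 0, 0, 0, 0]),
  ([0, 2], [0, 0, 0, -1, -1, -1, -1]),
  ([0, 3], [0, 0, 0, -1, -1, -1, 0]),
  ([1, 3], [0, 0, 0, -1, -1, 0, 0]),
  ([3, 1], [0, 0, 0, -1, 0, 0, 0]),
  ([2, 1], [0, 0, 0, 0, -1, -1, -1]),
  ([2, 2], [0, 0, 0, 0, -1, -1, 0]),
  ([3, 2], [0, 0, 0, 0, -1, 0, 0]),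
  ([4, 4], [0, 0, 0, 0, 0, -1, -1]),
  ([4, 0], [0, 0, 0, 0, 0, -1, 0]),
  ([0, 4], [0, 0, 0, 0, 0, 0, -1]),
  ([0, 1], [0, 0, 0, 0, 0, 0, 1]),
  ([1, 0], [0, 0, 0, 0, 0, 1, 0]),
  ([1, 1], [0, 0, 0, 0, 0, 1, 1]),
  ([2, 3], [0, 0, 0, 0, 1, 0, 0]),
  ([3, 3], [0, 0, 0, 0, 1, 1, 0]),
  ([3, 4], [0, 0, 0, 0, 1, 1, 1]),
  ([2, 4], [0, 0, 0, 1, 0, 0, 0]),
  ([4, 2], [0, 0, 0, 1, 1, 0, 0]),
  ([0, 2], [0, 0, 0, 1, 1, 1, 0]),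
  ([0, 3], [0, 0, 0, 1, 1, 1, 1]),
  ([4, 0], [0, 0, 1, 0, 0, 0, 0]),
  ([1, 4], [0, 0, 1, 1, 0, 0, 0]),
  ([3, 2], [0, 0, 1, 1, 1, 0, 0]),
  ([4, 2], [0, 0, 1, 1, 1, 1, 0]),
  ([4, 3], [0, 0, 1, 1, 1, 1, 1]),
  ([4, 3], [0, 1, 0, 0, 0, 0, 0]),
  ([1, 2], [0, 1, 0, 1, 0, 0, 0]),
  ([3, 0], [0, 1, 0, 1, 1, 0, 0]),
  ([4, 0], [0, 1, 0, 1, 1, 1, 0]),
  ([4, 1], [0, 1, 0, 1, 1, 1, 1]),
  ([0, 2], [0, 1, 1, 1, 0, 0, 0]),
  ([2, 0], [0, 1, 1, 1, 1, 0, 0]),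
  ([3, 0], [0, 1, 1, 1, 1, 1, 0]),
  ([3, 1], [0, 1, 1, 1, 1, 1, 1]),
  ([4, 4], [0, 1, 1, 2, 1, 0, 0]),
  ([0, 4], [0, 1, 1, 2, 1, 1, 0]),
  ([0, 0], [0, 1, 1, 2, 1, 1, 1]),
  ([2, 2], [0, 1, 1, 2, 2, 1, 0]),
  ([2, 3], [0, 1, 1, 2, 2, 1, 1]),
  ([3, 3], [0, 1, 1, 2, 2, 2, 1]),
  ([3, 2], [1, 0, 0, 0, 0, 0, 0]),
  ([2, 2], [1, 0, 1, 0, 0, 0, 0]),
  ([4, 1], [1, 0, 1, 1, 0, 0, 0]),
  ([1, 4], [1, 0, 1, 1, 1, 0, 0]),
  ([2, 4], [1, 0, 1, 1, 1, 1, 0]),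
  ([2, 0], [1, 0, 1, 1, 1, 1, 1]),
  ([3, 4], [1, 1, 1, 1, 0, 0, 0]),
  ([0, 2], [1, 1, 1, 1, 1, 0, 0]),
  ([1, 2], [1, 1, 1, 1, 1, 1, 0]),
  ([1, 3], [1, 1, 1, 1, 1, 1, 1]),
  ([2, 1], [1, 1, 1, 2, 1, 0, 0]),
  ([3, 1], [1, 1, 1, 2, 1, 1, 0]),
  ([3, 2], [1, 1, 1, 2, 1, 1, 1]),
  ([0, 4], [1, 1, 1, 2, 2, 1, 0]),
  ([0, 0], [1, 1, 1, 2, 2, 1, 1]),
  ([1, 0], [1, 1, 1, 2, 2, 2, 1]),
  ([1, 1], [1, 1, 2, 2, 1, 0, 0]),
  ([2, 1], [1, 1, 2, 2, 1, 1, 0]),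
  ([2, 2], [1, 1, 2, 2, 1, 1, 1]),
  ([4, 4], [1, 1, 2, 2, 2, 1, 0]),
  ([4, 0], [1, 1, 2, 2, 2, 1, 1]),
  ([0, 0], [1, 1, 2, 2, 2, 2, 1]),
  ([1, 3], [1, 1, 2, 3, 2, 1, 0]),
  ([1, 4], [1, 1, 2, 3, 2, 1, 1]),
  ([2, 4], [1, 1, 2, 3, 2, 2, 1]),
  ([4, 2], [1, 1, 2, 3, 3, 2, 1]),
  ([0, 1], [1, 2, 2, 3, 2, 1, 0]),
  ([0, 2], [1, 2, 2, 3, 2, 1, 1]),
  ([1, 2], [1, 2, 2, 3, 2, 2, 1]),
  ([3, 0], [1, 2, 2, 3, 3, 2, 1]),
  ([0, 4], [1, 2, 2, 4, 3, 2, 1]),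
  ([4, 4], [1, 2, 3, 4, 3, 2, 1]),
  ([2, 1], [2, 2, 3, 4, 3, 2, 1])]

theorem hT : T = (List.range chevE7.nroots).map fun b => (dg 5 N (crd chevE7 7 b), crd chevE7 7 b) := by
  decide +kernel

/-- the lines, block 0 -/
def L0 : List LD := [
  ⟨[1, 0], [[-1, -1, 0, 0, 1, 0, 0], [0, 1, 0, -1, 0, 0, 1]], 36187839362172778519202147733058643766, [(0, 1, 32), (3, 1, 74), (6, 1, 77), (7, 1, 83), (11, 1, 87), (12, 1, 88), (15, 1, 91), (16, 1, 92), (17, 2, 87), (18, 2, 88), (21, 2, 91), (22, 2, 92), (23, 4, 88), (27, 8, 88), (30, 8, 92), (35, 1, 111), (36, 1, 112), (40, 1, 116), (41, 1, 117), (44, 2, 116), (45, 2, 117), (47, 4, 117), (49, 1, 120), (50, 1, 121), (52, 1, 123), (54, 2, 120), (55, 2, 121), (57, 33, 88), (61, 4, 120), (64, 5, 121), (68, 37, 92), (70, 4, 123), (71, 5, 123), (73, 2, 124), (75, 4, 124), (76, 5, 124), (78, 8, 121),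 (80, 8, 123), (81, 9, 123), (84, 8, 124), (85, 9, 124), (89, 13, 124), (90, 14, 124), (95, 33, 117), (98, 37, 117), (102, 37, 121), (103, 33, 123), (104, 34, 123), (107, 37, 123), (108, 38, 123), (109, 33, 124), (110, 34, 124), (113, 37, 124), (114, 38, 124), (118, 42, 124), (119, 48, 124), (122, 51, 124), (125, 93, 124)]⟩,
  ⟨[1, 1], [[0, -2, 0, 1, 0, 0, 0], [-1, -2, 1, 0, 1, -1, 1]], 60242809610698902875170693028047917741, [(1, 0, 93), (4, 0, 96), (6, 0, 98), (8, 0, 100), (10, 0, 102), (11, 0, 103), (13, 0, 105), (14, 0, 106), (16, 0, 108), (18, 0, 110), (24, 0, 116), (26, 0, 118), (28, 0, 120), (30, 0, 122), (31, 0, 123), (33, 2, 103), (35, 2, 105), (36, 2, 106), (38, 2, 108), (39, 3, 106), (41, 3, 108), (44, 2, 116), (46, 2, 118), (48, 7, 106), (50, 7, 108), (54, 2, 120), (56, 2, 122), (58, 3, 120), (60, 17, 106), (65, 19, 108),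 (67, 5, 122), (69, 3, 123), (71, 5, 123), (75, 17, 118), (77, 19, 118), (79, 7, 123), (81, 9, 123), (84, 17, 122), (86, 19, 122), (87, 17, 123), (89, 19, 123), (90, 20, 123), (92, 22, 123), (94, 2, 125), (95, 3, 125), (97, 5, 125), (99, 7, 125), (101, 9, 125), (107, 15, 125), (109, 17, 125), (111, 19, 125), (112, 20, 125), (114, 22, 125), (115, 23, 125), (117, 25, 125), (119, 27, 125), (121, 29, 125), (124, 32, 125)]⟩,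
  ⟨[1, 2], [[0, 0, -1, 0, 0, 1, 0], [1, 0, 0, 0, -1, 0, 1]], 60243438366634253884784171307312583341, [(1, 0, 93), (4, 0, 96), (6, 0, 98), (8, 0, 100), (10, 0, 102), (11, 0, 103), (13, 0, 105), (14, 0, 106), (18, 0, 110), (21, 0, 113), (24, 0, 116), (26, 0, 118), (28, 0, 120), (30, 0, 122), (31, 0, 123), (33, 2, 103), (36, 2, 106), (38, 2, 108), (39, 3, 106), (41, 3, 108), (44, 2, 116), (46, 2, 118), (47, 3, 118), (48, 7, 106), (50, 7, 108), (54, 2, 120), (56, 2, 122), (58, 3, 120), (60, 17, 106), (65, 19, 108), (67, 5, 122), (69, 3, 123), (71, 5, 123), (75, 17, 118), (77, 19, 118), (78, 7, 122), (79, 7, 123), (81, 9, 123), (84, 17, 122), (86, 19, 122), (87, 17, 123), (89, 19, 123), (92, 22, 123), (94, 2, 125), (95, 3, 125), (97, 5, 125), (99, 7, 125), (101, 9, 125), (104, 12, 125), (107, 15, 125), (111, 19, 125), (112, 20, 125), (114,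 22, 125), (115, 23, 125), (117, 25, 125), (119, 27, 125), (121, 29, 125), (124, 32, 125)]⟩,
  ⟨[1, 3], [[1, -1, -1, 1, -1, 1, 0], [1, -2, 0, 1, -1, 0, 1]], 36146300353500960448812286130360181558, [(0, 1, 32), (3, 1, 74), (6, 1, 77), (7, 1, 83), (10, 1, 86), (11, 1, 87), (12, 1, 88), (15, 1, 91), (16, 1, 92), (17, 2, 87), (18, 2, 88), (21, 2, 91), (22, 2, 92), (23, 4, 88), (26, 4, 92), (27, 8, 88), (30, 8, 92), (35, 1, 111), (36, 1, 112), (40, 1, 116), (45, 2, 117), (47, 4, 117), (49, 1, 120), (50, 1, 121), (52, 1, 123), (54, 2, 120), (55, 2, 121), (57, 33, 88), (61, 4, 120), (64, 5, 121), (68, 37, 92), (70, 4, 123), (71, 5, 123), (73, 2, 124), (75, 4, 124), (76, 5, 124), (78, 8, 121), (80, 8, 123), (85, 9, 124), (89, 13, 124), (90, 14, 124), (95, 33, 117), (98, 37, 117), (99, 33, 121), (102, 37, 121), (103, 33, 123), (104, 34, 123),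 (107, 37, 123), (108, 38, 123), (109, 33, 124), (110, 34, 124), (113, 37, 124), (114, 38, 124), (115, 39, 124), (118, 42, 124), (119, 48, 124), (122, 51, 124), (125, 93, 124)]⟩,
  ⟨[1, 4], [[0, -2, -1, 1, 0, 1, 0], [0, -1, 0, 0, 0, 0, 1]], 72961200147979455147238108206087729627, [(2, 0, 94), (5, 0, 97), (9, 0, 101), (10, 0, 102), (11, 0, 103), (16, 0, 108), (18, 0, 110), (19, 0, 111), (20, 0, 112), (21, 0, 113), (25, 0, 117), (26, 0, 118), (29, 0, 121), (30, 0, 122), (32, 0, 124), (34, 1, 110), (35, 1, 111), (36, 1, 112), (37, 1, 113), (41, 1, 117), (42, 1, 118), (43, 3, 112), (44, 3, 113), (47, 3, 118), (50, 1, 121), (51, 1, 122), (53, 7, 112), (59, 3, 121), (62, 12, 112), (63, 13, 113), (66, 4, 122), (72, 13, 118), (74, 3, 124), (75, 4, 124), (78, 7, 122), (81, 12, 122), (82, 13, 122), (83, 7, 124), (84, 8, 124), (88, 12, 124),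 (89, 13, 124), (90, 14, 124), (91, 15, 124), (93, 1, 125), (95, 3, 125), (96, 4, 125), (99, 7, 125), (100, 8, 125), (104, 12, 125), (105, 13, 125), (106, 14, 125), (107, 15, 125), (109, 17, 125), (114, 22, 125), (115, 23, 125), (116, 24, 125), (120, 28, 125), (123, 31, 125)]⟩,
  ⟨[0, 1], [[-1, 1, 0, -1, 1, 0, 0], [0, 2, -1, -1, 0, 1, 0]], 72296586189701113885650106497529737627, [(2, 0, 94), (5, 0, 97), (6, 0, 98), (9, 0, 101), (10, 0, 102), (11, 0, 103), (16, 0, 108), (18, 0, 110), (19, 0, 111), (20, 0, 112), (21, 0, 113), (25, 0, 117), (26, 0, 118), (29, 0, 121), (32, 0, 124), (34, 1, 110), (35, 1, 111), (36, 1, 112), (37, 1, 113), (41, 1, 117), (42, 1, 118), (43, 3, 112), (44, 3, 113), (47, 3, 118), (51, 1, 122), (53, 7, 112), (54, 7, 113), (59, 3, 121), (62, 12, 112), (63, 13, 113), (66, 4, 122), (71, 12, 118), (72, 13, 118), (74,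 3, 124), (78, 7, 122), (81, 12, 122), (82, 13, 122), (83, 7, 124), (84, 8, 124), (88, 12, 124), (89, 13, 124), (90, 14, 124), (91, 15, 124), (93, 1, 125), (96, 4, 125), (99, 7, 125), (100, 8, 125), (104, 12, 125), (105, 13, 125), (106, 14, 125), (107, 15, 125), (109, 17, 125), (114, 22, 125), (115, 23, 125), (116, 24, 125), (119, 27, 125), (120, 28, 125), (123, 31, 125)]⟩]

theorem hL0 : (L0.all fun L => chkLine chevE7 5 memA T L) = true := by decide +kernel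

/-- all lines -/
def LL : List LD := L0

theorem hLL : LL.map LD.P = reps 5 2 := by decide +kernel

theorem hmu : (LL.all fun L => L.mu.all fun u => Nat.beq u.length 7) = true := by decide +kernel

theorem hL : ∀ L ∈ LL, chkLine chevE7 5 memA T L = true := by
  intro L hL
  exact List.all_eq_true.1 hL0 L hL

/-- **the table** -/
theorem chkF : ChkF chevE7 7 5 (fun j b => ∑ i, Nf j i * vec chevE7 7 b i) :=
  chkF_of (by norm_num) Nf hN memA hT hLL hmu hL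

end Cfsg.Agent.H408.RM.E7Five
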