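import Cfsg.Agent.H408.RM.ChkL

/-!
# S3849, P10: the table of `E7`, `s = 7` (helper408)
-/

set_option autoImplicit false
set_option maxRecDepth 100000
set_option maxHeartbeats 4000000

namespace Cfsg.Agent.H408.RM.E7Seven

open Cfsg Cfsg.Lie Cfsg.Lie.ChevalleyDatum Cfsg.Agent.Nodes.RGDChev Cfsg.Agent.H408.RM Cfsg.Agent.H169.RM
open Cfsg.Agent.H167.RV (crd)

/-- the functionals -/
def Nf : Fin 3 → Fin 7 → ℤ := ![![5, 1, 5, 3, 1, 0, 0], ![6, 6, 4, 1, 0, 1, 0], ![4, 5, 1, 2, 0, 0, 1]]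

/-- the functionals -/
def N : List (List ℤ) := [[5, 1, 5, 3, 1, 0, 0], [6, 6, 4, 1, 0, 1, 0], [4, 5, 1, 2, 0, 0, 1]]

theorem hN : N = List.ofFn fun j => List.ofFn (Nf j) := by decide +kernel

/-- the digits and the coordinates of the roots -/
def T : List (List ℕ × List ℤ) := [
  ([0, 0, 5], [-2, -2, -3, -4, -3, -2, -1]),
  ([5, 6, 2], [-1, -2, -3, -4, -3, -2, -1]),
  ([3, 3, 3], [-1, -2, -2, -4, -3, -2, -1]),
  ([6, 4, 5], [-1, -2, -2, -3, -3, -2, -1]),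
  ([0, 4, 5], [-1, -2, -2, -3, -2, -2, -1]),
  ([0, 5, 5], [-1, -2, -2, -3, -2, -1, -1]),
  ([0, 5, 6], [-1, -2, -2, -3, -2, -1, 0]),
  ([0, 3, 3], [-1, -1, -2, -3, -3, -2, -1]),
  ([1, 3, 3], [-1, -1, -2, -3, -2, -2, -1]),
  ([1, 4, 3], [-1, -1, -2, -3, -2, -1, -1]),
  ([1, 4, 4], [-1, -1, -2, -3, -2, -1, 0]),
  ([4, 4, 5], [-1, -1, -2, -2, -2, -2, -1]),
  ([4, 5, 5], [-1, -1, -2, -2, -2, -1, -1]),
  ([4, 5, 6], [-1, -1, -2, -2, -2, -1, 0]),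
  ([5, 5, 5], [-1, -1, -2, -2, -1, -1, -1]),
  ([5, 5, 6], [-1, -1, -2, -2, -1, -1, 0]),
  ([5, 6, 6], [-1, -1, -2, -2, -1, 0, 0]),
  ([2, 1, 6], [-1, -1, -1, -2, -2, -2, -1]),
  ([2, 2, 6], [-1, -1, -1, -2, -2, -1, -1]),
  ([2, 2, 0], [-1, -1, -1, -2, -2, -1, 0]),
  ([3, 2, 6], [-1, -1, -1, -2, -1, -1, -1]),
  ([3, 2, 0], [-1, -1, -1, -2, -1, -1, 0]),
  ([3, 3, 0], [-1, -1, -1, -2, -1, 0, 0]),
  ([6, 3, 1], [-1, -1, -1, -1, -1, -1, -1]),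
  ([6, 3, 2], [-1, -1, -1, -1, -1, -1, 0]),
  ([6, 4, 2], [-1, -1, -1, -1, -1, 0, 0]),
  ([0, 4, 2], [-1, -1, -1, -1, 0, 0, 0]),
  ([0, 2, 6], [-1, 0, -1, -1, -1, -1, -1]),
  ([0, 2, 0], [-1, 0, -1, -1, -1, -1, 0]),
  ([0, 3, 0], [-1, 0, -1, -1, -1, 0, 0]),
  ([1, 3, 0], [-1, 0, -1, -1, 0, 0, 0]),
  ([4, 4, 2], [-1, 0, -1, 0, 0, 0, 0]),
  ([2, 1, 3], [-1, 0, 0, 0, 0, 0, 0]),
  ([0, 0, 3], [0, -1, -1, -2, -2, -2, -1]),
  ([0, 1, 3], [0, -1, -1, -2, -2, -1, -1]),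
  ([0, 1, 4], [0, -1, -1, -2, -2, -1, 0]),
  ([1, 1, 3], [0, -1, -1, -2, -1, -1, -1]),
  ([1, 1, 4], [0, -1, -1, -2, -1, -1, 0]),
  ([1, 2, 4], [0, -1, -1, -2, -1, 0, 0]),
  ([4, 2, 5], [0, -1, -1, -1, -1, -1, -1]),
  ([4, 2, 6], [0, -1, -1, -1, -1, -1, 0]),
  ([4, 3, 6], [0, -1, -1, -1, -1, 0, 0]),
  ([5, 3, 6], [0, -1, -1, -1, 0, 0, 0]),
  ([2, 6, 6], [0, -1, 0, -1, -1, -1, -1]),
  ([2, 6, 0], [0, -1, 0, -1, -1, -1, 0]),
  ([2, 0, 0], [0, -1, 0, -1, -1, 0, 0]),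
  ([3, 0, 0], [0, -1, 0, -1, 0, 0, 0]),
  ([6, 1, 2], [0, -1, 0, 0, 0, 0, 0]),
  ([5, 1, 3], [0, 0, -1, -1, -1, -1, -1]),
  ([5, 1, 4], [0, 0, -1, -1, -1, -1, 0]),
  ([5, 2, 4], [0, 0, -1, -1, -1, 0, 0]),
  ([6, 2, 4], [0, 0, -1, -1, 0, 0, 0]),
  ([2, 3, 6], [0, 0, -1, 0, 0, 0, 0]),
  ([3, 5, 4], [0, 0, 0, -1, -1, -1, -1]),
  ([3, 5, 5], [0, 0, 0, -1, -1, -1, 0]),
  ([3, 6, 5], [0, 0, 0, -1, -1, 0, 0]),
  ([4, 6, 5], [0, 0, 0, -1, 0, 0, 0]),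
  ([6, 6, 6], [0, 0, 0, 0, -1, -1, -1]),
  ([6, 6, 0], [0, 0, 0, 0, -1, -1, 0]),
  ([6, 0, 0], [0, 0, 0, 0, -1, 0, 0]),
  ([0, 6, 6], [0, 0, 0, 0, 0, -1, -1]),
  ([0, 6, 0], [0, 0, 0, 0, 0, -1, 0]),
  ([0, 0, 6], [0, 0, 0, 0, 0, 0, -1]),
  ([0, 0, 1], [0, 0, 0, 0, 0, 0, 1]),
  ([0, 1, 0], [0, 0, 0, 0, 0, 1, 0]),
  ([0, 1, 1], [0, 0, 0, 0, 0, 1, 1]),
  ([1, 0, 0], [0, 0, 0, 0, 1, 0, 0]),
  ([1, 1, 0], [0, 0, 0, 0, 1, 1, 0]),
  ([1, 1, 1], [0, 0, 0, 0, 1, 1, 1]),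
  ([3, 1, 2], [0, 0, 0, 1, 0, 0, 0]),
  ([4, 1, 2], [0, 0, 0, 1, 1, 0, 0]),
  ([4, 2, 2], [0, 0, 0, 1, 1, 1, 0]),
  ([4, 2, 3], [0, 0, 0, 1, 1, 1, 1]),
  ([5, 4, 1], [0, 0, 1, 0, 0, 0, 0]),
  ([1, 5, 3], [0, 0, 1, 1, 0, 0, 0]),
  ([2, 5, 3], [0, 0, 1, 1, 1, 0, 0]),
  ([2, 6, 3], [0, 0, 1, 1, 1, 1, 0]),
  ([2, 6, 4], [0, 0, 1, 1, 1, 1, 1]),
  ([1, 6, 5], [0, 1, 0, 0, 0, 0, 0]),
  ([4, 0, 0], [0, 1, 0, 1, 0, 0, 0]),
  ([5, 0, 0], [0, 1, 0, 1, 1, 0, 0]),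
  ([5, 1, 0], [0, 1, 0, 1, 1, 1, 0]),
  ([5, 1, 1], [0, 1, 0, 1, 1, 1, 1]),
  ([2, 4, 1], [0, 1, 1, 1, 0, 0, 0]),
  ([3, 4, 1], [0, 1, 1, 1, 1, 0, 0]),
  ([3, 5, 1], [0, 1, 1, 1, 1, 1, 0]),
  ([3, 5, 2], [0, 1, 1, 1, 1, 1, 1]),
  ([6, 5, 3], [0, 1, 1, 2, 1, 0, 0]),
  ([6, 6, 3], [0, 1, 1, 2, 1, 1, 0]),
  ([6, 6, 4], [0, 1, 1, 2, 1, 1, 1]),
  ([0, 6, 3], [0, 1, 1, 2, 2, 1, 0]),
  ([0, 6, 4], [0, 1, 1, 2, 2, 1, 1]),
  ([0, 0, 4], [0, 1, 1, 2, 2, 2, 1]),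
  ([5, 6, 4], [1, 0, 0, 0, 0, 0, 0]),
  ([3, 3, 5], [1, 0, 1, 0, 0, 0, 0]),
  ([6, 4, 0], [1, 0, 1, 1, 0, 0, 0]),
  ([0, 4, 0], [1, 0, 1, 1, 1, 0, 0]),
  ([0, 5, 0], [1, 0, 1, 1, 1, 1, 0]),
  ([0, 5, 1], [1, 0, 1, 1, 1, 1, 1]),
  ([0, 3, 5], [1, 1, 1, 1, 0, 0, 0]),
  ([1, 3, 5], [1, 1, 1, 1, 1, 0, 0]),
  ([1, 4, 5], [1, 1, 1, 1, 1, 1, 0]),
  ([1, 4, 6], [1, 1, 1, 1, 1, 1, 1]),
  ([4, 4, 0], [1, 1, 1, 2, 1, 0, 0]),
  ([4, 5, 0], [1, 1, 1, 2, 1, 1, 0]),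
  ([4, 5, 1], [1, 1, 1, 2, 1, 1, 1]),
  ([5, 5, 0], [1, 1, 1, 2, 2, 1, 0]),
  ([5, 5, 1], [1, 1, 1, 2, 2, 1, 1]),
  ([5, 6, 1], [1, 1, 1, 2, 2, 2, 1]),
  ([2, 1, 1], [1, 1, 2, 2, 1, 0, 0]),
  ([2, 2, 1], [1, 1, 2, 2, 1, 1, 0]),
  ([2, 2, 2], [1, 1, 2, 2, 1, 1, 1]),
  ([3, 2, 1], [1, 1, 2, 2, 2, 1, 0]),
  ([3, 2, 2], [1, 1, 2, 2, 2, 1, 1]),
  ([3, 3, 2], [1, 1, 2, 2, 2, 2, 1]),
  ([6, 3, 3], [1, 1, 2, 3, 2, 1, 0]),
  ([6, 3, 4], [1, 1, 2, 3, 2, 1, 1]),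
  ([6, 4, 4], [1, 1, 2, 3, 2, 2, 1]),
  ([0, 4, 4], [1, 1, 2, 3, 3, 2, 1]),
  ([0, 2, 1], [1, 2, 2, 3, 2, 1, 0]),
  ([0, 2, 2], [1, 2, 2, 3, 2, 1, 1]),
  ([0, 3, 2], [1, 2, 2, 3, 2, 2, 1]),
  ([1, 3, 2], [1, 2, 2, 3, 3, 2, 1]),
  ([4, 4, 4], [1, 2, 2, 4, 3, 2, 1]),
  ([2, 1, 5], [1, 2, 3, 4, 3, 2, 1]),
  ([0, 0, 2], [2, 2, 3, 4, 3, 2, 1])]

theorem hT : T = (List.range chevE7.nroots).map fun b => (dg 7 N (crd chevE7 7 b), crd chevE7 7 b) := by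
  decide +kernel

/-- the mask of the codes of the roots -/
def B : ℕ := 14191996901769083392050773248654116336746936063696195817687901162198426351149273636859029794668469768702

/-- the lines, block 0 -/
def L0 : List LD := [
  ⟨[1, 0, 0], [], 85070591730232802402750687313922097151, [(45, 2, 117), (46, 2, 118), (59, 3, 121), (66, 4, 122), (79, 7, 123), (80, 8, 123)]⟩,
  ⟨[1, 0, 1], [], 85070591730234615865843651857942052863, []⟩,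
  ⟨[1, 0, 2], [], 85070591730234615865843651857942052863, []⟩,
  ⟨[1, 0, 3], [], 85070591730234615865843651857942052863, []⟩,
  ⟨[1, 0, 4], [], 85070591730234615865843651857942052863, []⟩,
  ⟨[1, 0, 5], [], 85070591730234615865843651857942052863, []⟩,
  ⟨[1, 0, 6], [], 85070591730234615865843651857942052863, []⟩,
  ⟨[1, 1, 0], [], 85070500459391399285464561129478422527, [(19, 0, 111), (22, 0, 114), (58, 3, 120), (67, 5, 122), (103, 11, 125), (106, 14, 125)]⟩,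
  ⟨[1, 1, 1], [], 74434171615526021173506909760105988091, [(2, 0, 94), (14, 0, 106), (57, 3, 119), (68, 6, 122), (111, 19, 125), (123, 31, 125)]⟩,
  ⟨[1, 1, 2], [], 85070591730234615865843651857942052863, []⟩]

theorem hL0 : (L0.all fun L => chkLine chevE7 7 (memB B) T L) = true := by decide +kernel

/-- the lines, block 1 -/
def L1 : List LD := [
  ⟨[1, 1, 3], [], 85049660282904677322323448088445581311, [(11, 0, 103), (18, 0, 110), (36, 1, 112), (89, 13, 124), (107, 15, 125), (114, 22, 125)]⟩,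
  ⟨[1, 1, 4], [], 85069293635903456520549089627162509311, [(15, 0, 107), (31, 0, 123), (37, 1, 113), (88, 12, 124), (94, 2, 125), (110, 18, 125)]⟩,
  ⟨[1, 1, 5], [], 85070591730234615865843651857942052863, []⟩,
  ⟨[1, 1, 6], [], 85070591730234615865843651857942052863, []⟩,
  ⟨[1, 2, 0], [], 85070591730234615865843651857942052863, []⟩,
  ⟨[1, 2, 1], [], 85070591730234615865843651857942052863, []⟩,
  ⟨[1, 2, 2], [], 85070591730234615865843651857942052863, []⟩,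
  ⟨[1, 2, 3], [], 85070591730234615865843651857942052863, []⟩,
  ⟨[1, 2, 4], [], 85070591730070200773748408102827327487, [(38, 1, 114), (42, 1, 118), (55, 2, 121), (70, 4, 123), (83, 7, 124), (87, 11, 124)]⟩,
  ⟨[1, 2, 5], [], 85070591730234615865843651857942052863, []⟩]

theorem hL1 : (L1.all fun L => chkLine chevE7 7 (memB B) T L) = true := by decide +kernel

/-- the lines, block 2 -/
def L2 : List LD := [
  ⟨[1, 2, 6], [], 85070591730234615865843651857942052863, []⟩,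
  ⟨[1, 3, 0], [], 85070571408208513105401812262307495935, [(21, 0, 113), (30, 0, 122), (44, 2, 116), (81, 9, 123), (95, 3, 125), (104, 12, 125)]⟩,
  ⟨[1, 3, 1], [], 85070591730234615865843651857942052863, []⟩,
  ⟨[1, 3, 2], [], 79753639182275593955159842418693505015, [(3, 0, 95), (20, 0, 112), (48, 1, 119), (77, 6, 124), (105, 13, 125), (122, 30, 125)]⟩,
  ⟨[1, 3, 3], [], 84894053637039596023195147669956718335, [(8, 0, 100), (12, 0, 104), (43, 2, 115), (82, 10, 123), (113, 21, 125), (117, 25, 125)]⟩,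
  ⟨[1, 3, 4], [], 85070591730234615865843651857942052863, []⟩,
  ⟨[1, 3, 5], [], 85065398165725405252121431000599224319, [(13, 0, 105), (25, 0, 117), (49, 1, 120), (76, 5, 124), (100, 8, 125), (112, 20, 125)]⟩,
  ⟨[1, 3, 6], [], 85070591730234615865843651857942052863, []⟩,
  ⟨[1, 4, 0], [], 85070591730234615865843651857942052863, []⟩,
  ⟨[1, 4, 1], [], 85070591730234615865843651857942052863, []⟩]

theorem hL2 : (L2.all fun L => chkLine chevE7 7 (memB B) T L) = true := by decide +kernel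

/-- the lines, block 3 -/
def L3 : List LD := [
  ⟨[1, 4, 2], [], 85070591730234615865843651857942052863, []⟩,
  ⟨[1, 4, 3], [], 84987190461867028944605043943716814335, [(9, 0, 101), (17, 0, 109), (39, 1, 115), (86, 10, 124), (108, 16, 125), (116, 24, 125)]⟩,
  ⟨[1, 4, 4], [], 85028404318259018030160585741934984191, [(10, 0, 102), (16, 0, 108), (54, 2, 120), (71, 5, 123), (109, 17, 125), (115, 23, 125)]⟩,
  ⟨[1, 4, 5], [], 85070589184991209468874137427928678399, [(24, 0, 116), (32, 0, 124), (40, 1, 116), (85, 9, 124), (93, 1, 125), (101, 9, 125)]⟩,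
  ⟨[1, 4, 6], [], 63802938727073556264089642837735374845, [(1, 0, 93), (23, 0, 115), (53, 2, 119), (72, 6, 123), (102, 10, 125), (124, 32, 125)]⟩,
  ⟨[1, 5, 0], [], 85070591730234615865843651857942052863, []⟩,
  ⟨[1, 5, 1], [], 85070591730234615865843651857942052863, []⟩,
  ⟨[1, 5, 2], [], 85070591730234615865843651857942052863, []⟩,
  ⟨[1, 5, 3], [], 85070591730234586941270131287886135295, [(51, 1, 122), (52, 1, 123), (56, 2, 122), (69, 3, 123), (73, 2, 124), (74, 3, 124)]⟩,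
  ⟨[1, 5, 4], [], 85070591730234615865843651857942052863, []⟩]

theorem hL3 : (L3.all fun L => chkLine chevE7 7 (memB B) T L) = true := by decide +kernel

/-- the lines, block 4 -/
def L4 : List LD := [
  ⟨[1, 5, 5], [], 85070591730234615865843651857942052863, []⟩,
  ⟨[1, 5, 6], [], 85070591730234615865843651857942052863, []⟩,
  ⟨[1, 6, 0], [], 85070591730234615865843651857942052863, []⟩,
  ⟨[1, 6, 1], [], 85070591730234615865843651857942052863, []⟩,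
  ⟨[1, 6, 2], [], 85070591730234615865843651857942052863, []⟩,
  ⟨[1, 6, 3], [], 85070591730234615865843651857942052863, []⟩,
  ⟨[1, 6, 4], [], 85070591730234615865843651857942052863, []⟩,
  ⟨[1, 6, 5], [], 85070591730214933042341782340272914431, [(41, 1, 117), (47, 3, 118), (50, 1, 121), (75, 4, 124), (78, 7, 122), (84, 8, 124)]⟩,
  ⟨[1, 6, 6], [], 85070591730234615865843651857942052863, []⟩,
  ⟨[0, 1, 0], [], 85070591492550128302298051993581649919, [(28, 0, 120), (29, 0, 121), (61, 4, 120), (64, 5, 121), (96, 4, 125), (97, 5, 125)]⟩]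

theorem hL4 : (L4.all fun L => chkLine chevE7 7 (memB B) T L) = true := by decide +kernel

/-- the lines, block 5 -/
def L5 : List LD := [
  ⟨[0, 1, 1], [], 83409056735503470986667483380565671775, [(5, 0, 97), (7, 0, 99), (60, 4, 119), (65, 6, 121), (118, 26, 125), (120, 28, 125)]⟩,
  ⟨[0, 1, 2], [], 85070591730234615865843651857942052863, []⟩,
  ⟨[0, 1, 3], [], 82412135419276253984407926796093226991, [(4, 0, 96), (27, 0, 119), (34, 1, 110), (91, 15, 124), (98, 6, 125), (121, 29, 125)]⟩,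
  ⟨[0, 1, 4], [], 84405977097278917775991667270124306367, [(6, 0, 98), (26, 0, 118), (35, 1, 111), (90, 14, 124), (99, 7, 125), (119, 27, 125)]⟩,
  ⟨[0, 1, 5], [], 85070591730234615865843651857942052863, []⟩,
  ⟨[0, 1, 6], [], 85070591730234615865843651857942052863, []⟩,
  ⟨[0, 0, 1], [], 42535295860165547761945246765502431230, [(0, 1, 32), (33, 1, 109), (62, 5, 119), (63, 6, 120), (92, 16, 124), (125, 93, 124)]⟩]

theorem hL5 : (L5.all fun L => chkLine chevE7 7 (memB B) T L) = true := by decide +kernel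

/-- all lines -/
def LL : List LD := L0 ++ L1 ++ L2 ++ L3 ++ L4 ++ L5

theorem hLL : LL.map LD.P = reps 7 3 := by decide +kernel

theorem hmu : (LL.all fun L => L.mu.all fun u => Nat.beq u.length 7) = true := by decide +kernel

theorem hL : ∀ L ∈ LL, chkLine chevE7 7 (memB B) T L = true := by
  intro L hL
  simp only [LL, List.mem_append, or_assoc] at hL
  rcases hL with h | h | h | h | h | h
  · exact List.all_eq_true.1 hL0 L h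
  · exact List.all_eq_true.1 hL1 L h
  · exact List.all_eq_true.1 hL2 L h
  · exact List.all_eq_true.1 hL3 L h
  · exact List.all_eq_true.1 hL4 L h
  · exact List.all_eq_true.1 hL5 L h

/-- **the table** -/
theorem chkF : ChkF chevE7 7 7 (fun j b => ∑ i, Nf j i * vec chevE7 7 b i) :=
  chkF_of (by norm_num) Nf hN (memB B) hT hLL hmu hL

end Cfsg.Agent.H408.RM.E7Seven
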